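import Groth.Agent.VBundLib.Free

/-! # Scaling coordinates; the spectrum of the structure sheaf -/

set_option autoImplicit false
set_option backward.isDefEq.respectTransparency false
set_option backward.defeqAttrib.useBackward true
set_option linter.style.haveILetI false

universe u

open CategoryTheory CategoryTheory.Limits AlgebraicGeometry TopologicalSpace Opposite

noncomputable section

namespace Groth.Agent.VBundLib

variable {X : Scheme.{u}} {E F : X.Modules}

/-- Multiplication of coordinates by a function. -/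
def smulCoord {T : Scheme.{u}} {g : T ⟶ X} (m : Γ(T, ⊤)) (d : Coord g E) : Coord g E :=
  ⟨PresheafOfModules.homMk
    { app := fun U => AddCommGrpCat.ofHom (AddMonoidHom.mk'
        (fun e => T.presheaf.map (homOfLE (le_top : g ⁻¹ᵁ U.unop ≤ ⊤)).op m * cval d U.unop e)
        fun e e' => by rw [cval_add, mul_add])
      naturality := fun U V i => by
        ext e
        rw [show i = (homOfLE (leOfHom i.unop)).op from Subsingleton.elim _ _]
        show T.presheaf.map (homOfLE (le_top : g ⁻¹ᵁ V.unop ≤ ⊤)).op m *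
            cval d V.unop (E.presheaf.map (homOfLE (leOfHom i.unop)).op e) =
          T.presheaf.map (homOfLE (g.preimage_mono (leOfHom i.unop))).op
            (T.presheaf.map (homOfLE (le_top : g ⁻¹ᵁ U.unop ≤ ⊤)).op m * cval d U.unop e)
        rw [map_mul, cval_res, ← CommRingCat.comp_apply (T.presheaf.map _) (T.presheaf.map _), ← Functor.map_comp]
        rfl }
    fun U r e => by
      show T.presheaf.map (homOfLE (le_top : g ⁻¹ᵁ U.unop ≤ ⊤)).op m * cval d U.unop (r • e) =
        g.app U.unop r * (T.presheaf.map (homOfLE (le_top : g ⁻¹ᵁ U.unop ≤ ⊤)).op m * cval d U.unop e)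
      rw [cval_smul]
      ring⟩

theorem cval_smulCoord {T : Scheme.{u}} {g : T ⟶ X} (m : Γ(T, ⊤)) (d : Coord g E) (U : X.Opens) (e : Γ(E, U)) :
    cval (smulCoord m d) U e = T.presheaf.map (homOfLE (le_top : g ⁻¹ᵁ U ≤ ⊤)).op m * cval d U e := rfl

theorem smulCoord_smulCoord {T : Scheme.{u}} {g : T ⟶ X} (m n : Γ(T, ⊤)) (d : Coord g E) :
    smulCoord m (smulCoord n d) = smulCoord (m * n) d :=
  coord_ext fun U _ e => by rw [cval_smulCoord, cval_smulCoord, cval_smulCoord, map_mul, mul_assoc]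

theorem one_smulCoord {T : Scheme.{u}} {g : T ⟶ X} (d : Coord g E) : smulCoord 1 d = d :=
  coord_ext fun U _ e => by rw [cval_smulCoord, map_one, one_mul]

theorem precomp_smulCoord {T : Scheme.{u}} {g : T ⟶ X} (m : Γ(T, ⊤)) (b : E ⟶ F) (d : Coord g F) :
    b ≫ smulCoord m d = smulCoord m (b ≫ d) :=
  coord_ext fun _ _ _ => rfl

theorem pullCoord_smulCoord {T V : Scheme.{u}} {p : V ⟶ X} {g : T ⟶ X} (k : T ⟶ V) (w : k ≫ p = g) (m : Γ(V, ⊤))
    (d : Coord p E) : pullCoord k w (smulCoord m d) = smulCoord (k.appTop m) (pullCoord k w d) := by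
  refine coord_ext fun U _ e => ?_
  rw [cval_pullCoord, cval_smulCoord, cval_smulCoord, cval_pullCoord, map_mul]
  congr 1
  rw [← CommRingCat.comp_apply, Scheme.Hom.map_appLE, ← CommRingCat.comp_apply, Scheme.Hom.appTop,
    Scheme.Hom.app_eq_appLE, Scheme.Hom.appLE_map]

theorem unitVal_smulCoord {T : Scheme.{u}} {g : T ⟶ X} (m : Γ(T, ⊤)) (d : Coord g (Coh.structureModule X)) :
    unitVal (smulCoord m d) = m * unitVal d :=
  congrArg (· * unitVal d) (ConcreteCategory.congr_hom (T.presheaf.map_id _) m)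

theorem unitVal_injective {T : Scheme.{u}} {g : T ⟶ X} {d d' : Coord g (Coh.structureModule X)}
    (h : unitVal d = unitVal d') : d = d' := by
  rw [← unitCoord_unitVal d, h, unitCoord_unitVal]

theorem algMap_unit {T : Scheme.{u}} {g : T ⟶ X} (k : T ⟶ (RelSpec.QCAlg.unit X).spec)
    (w : k ≫ (RelSpec.QCAlg.unit X).π = g) : RelSpecLib.algMap (RelSpec.QCAlg.unit X) g k w = g.c :=
  (Category.id_comp _).symm.trans (RelSpecLib.str_algMap _ _ _ _)

/-- The spectrum of the structure sheaf is the scheme itself. -/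
theorem isIso_unit_π : IsIso (RelSpec.QCAlg.unit X).π := by
  refine ⟨RelSpecLib.lift (RelSpec.QCAlg.unit X) (𝟙 X) (𝟙 X : X ⟶ X).c, ?_,
    RelSpecLib.lift_π _ _ _ (Category.id_comp _)⟩
  have w : (RelSpec.QCAlg.unit X).π ≫ RelSpecLib.lift (RelSpec.QCAlg.unit X) (𝟙 X) (𝟙 X : X ⟶ X).c ≫
      (RelSpec.QCAlg.unit X).π = (RelSpec.QCAlg.unit X).π := by
    rw [RelSpecLib.lift_π _ _ _ (Category.id_comp _), Category.comp_id]
  have h1 := RelSpecLib.lift_algMap (RelSpec.QCAlg.unit X) (RelSpec.QCAlg.unit X).π _ ((Category.assoc _ _ _).trans w)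
  have h2 := RelSpecLib.lift_algMap (RelSpec.QCAlg.unit X) (RelSpec.QCAlg.unit X).π (𝟙 _) (Category.id_comp _)
  rw [algMap_unit] at h1 h2
  exact h1.symm.trans h2

/-- The value at `1` of an automorphism of the structure sheaf. -/
theorem exists_nu (u : Coh.structureModule X ⟶ (RelSpec.QCAlg.unit X).toModule) [IsIso u] :
    ∃ ν : Γ(X, ⊤), IsUnit ν ∧ ∀ {T : Scheme.{u}} (g : T ⟶ X) (k : T ⟶ (RelSpec.QCAlg.unit X).spec)
      (w : k ≫ (RelSpec.QCAlg.unit X).π = g),
      unitVal (u ≫ modOf (RelSpec.QCAlg.unit X) (RelSpecLib.algMap _ g k w) (RelSpecLib.str_algMap _ _ _ _)) =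
        g.appTop ν := by
  let ν : Γ(X, ⊤) := u.app ⊤ (1 : Γ(X, ⊤))
  refine ⟨ν, ?_, fun g k w => ?_⟩
  · let o : Γ(X, ⊤) := 1
    let z : Γ(X, ⊤) := (inv u).app ⊤ o
    let uz : Γ(X, ⊤) := u.app ⊤ z
    have h1 : uz = o := congr(($(IsIso.inv_hom_id u)).app ⊤ o)
    have h2 : uz = z * ν :=
      (congrArg (u.app ⊤) (mul_one z).symm).trans (Scheme.Modules.Hom.app_smul u z (1 : Γ(X, ⊤)))
    exact IsUnit.of_mul_eq_one_right z (h2.symm.trans h1)
  · refine (cval_modOf (RelSpec.QCAlg.unit X) u _ _ ⊤ (1 : Γ(X, ⊤))).trans ?_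
    rw [algMap_unit]
    rfl

end Groth.Agent.VBundLib
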