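import Groth.Agent.VBundLib.Clopen
import Groth.Agent.VBundLib.Scale
import Groth.Agent.S1863

/-! # Injectivity of pullback to an affine bundle -/

set_option autoImplicit false
set_option backward.isDefEq.respectTransparency false
set_option linter.style.haveILetI false

universe u

open CategoryTheory CategoryTheory.Limits AlgebraicGeometry TopologicalSpace
open Groth.Agent.CycLib

noncomputable section

namespace Groth.Agent.VBundLib

open CycLib.AffBundle (Idx LocTriv)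

variable {X : Scheme.{u}}

/-- The value of a functional at a point of a bundle. -/
def theta {E : X.Modules} {V : Scheme.{u}} {p : V ⟶ X} (c : Coord p E) (b : Coh.structureModule X ⟶ E)
    {T : Scheme.{u}} (k : T ⟶ V) : Γ(T, ⊤) := unitVal (b ≫ pullCoord k (rfl : k ≫ p = k ≫ p) c)

theorem unitVal_congr {E : X.Modules} {V : Scheme.{u}} {p : V ⟶ X} (c : Coord p E) (b : Coh.structureModule X ⟶ E)
    {T : Scheme.{u}} (k : T ⟶ V) {g : T ⟶ X} (w : k ≫ p = g) : unitVal (b ≫ pullCoord k w c) = theta c b k := by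
  subst w; rfl

theorem theta_comp {E : X.Modules} {V : Scheme.{u}} {p : V ⟶ X} (c : Coord p E) (b : Coh.structureModule X ⟶ E)
    {T T' : Scheme.{u}} (k : T ⟶ V) (l : T' ⟶ T) : theta c b (l ≫ k) = l.appTop (theta c b k) := by
  refine (unitVal_congr c b (l ≫ k) (Category.assoc l k p)).symm.trans ?_
  rw [← pullCoord_comp k rfl l rfl c, ← pullCoord_precomp, unitVal_pullCoord]
  rfl

theorem appTop_comp {A B C : Scheme.{u}} (f : A ⟶ B) (g : B ⟶ C) (t : Γ(C, ⊤)) :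
    (f ≫ g).appTop t = f.appTop (g.appTop t) := by
  rw [Scheme.Hom.comp_appTop, CommRingCat.comp_apply]

theorem range_subset_basicOpen {T V : Scheme.{u}} (k : T ⟶ V) {t : Γ(V, ⊤)} (h : IsUnit (k.appTop t)) :
    Set.range k ⊆ (V.basicOpen t : Set V) := by
  rintro _ ⟨x, rfl⟩
  have h1 : k ⁻¹ᵁ V.basicOpen t = ⊤ := by
    rw [Scheme.preimage_basicOpen]
    exact T.basicOpen_of_isUnit h
  exact (h1.ge trivial : x ∈ k ⁻¹ᵁ V.basicOpen t)

theorem isUnit_appTop_basicOpen {V : Scheme.{u}} (t : Γ(V, ⊤)) : IsUnit ((V.basicOpen t).ι.appTop t) := by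
  rw [Scheme.Opens.ι_appTop]
  have h := V.toRingedSpace.isUnit_res_basicOpen t
  have hle : (V.basicOpen t).ι ''ᵁ ⊤ ≤ V.basicOpen t := (Scheme.Opens.ι_image_top _).le
  have h2 := h.map (V.presheaf.map (homOfLE hle).op).hom
  erw [← CommRingCat.comp_apply, ← V.presheaf.map_comp] at h2
  exact h2

section Scaling

variable {E : X.Modules} {V : Scheme.{u}} {p : V ⟶ X} {c : Coord p E} (hc : IsVB p c) (b : Coh.structureModule X ⟶ E)
  {ν : Γ(X, ⊤)} (hν : IsUnit ν) {B : Scheme.{u}} (i : B ⟶ V) [Mono i]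
  (hi : theta c b i = (i ≫ p).appTop ν)
  (hB : ∀ {T : Scheme.{u}} (k : T ⟶ V), theta c b k = (k ≫ p).appTop ν → ∃ h, h ≫ i = k)

include hc hν hi hB in
/-- Scaling identifies the locus where the functional is invertible. -/
theorem exists_scaling :
    ∃ (W : 𝔸(Idx.{u} 1; B).Opens) (e : (W : Scheme.{u}) ≅ (V.basicOpen (theta c b (𝟙 V)) : Scheme.{u})),
      W = 𝔸(Idx.{u} 1; B).basicOpen (AffineSpace.coord B ⟨0⟩) ∧ e.hom ≫ (V.basicOpen (theta c b (𝟙 V))).ι ≫ p = (W.ι ≫ (𝔸(Idx.{u} 1; B) ↘ B)) ≫ i ≫ p := by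
  let θ₀ := theta c b (𝟙 V)
  let U := V.basicOpen θ₀
  let lam₀ : Γ(𝔸(Idx.{u} 1; B), ⊤) := AffineSpace.coord B ⟨0⟩
  let W := 𝔸(Idx.{u} 1; B).basicOpen lam₀
  have hk : ∀ {T : Scheme.{u}} (k : T ⟶ V), theta c b k = k.appTop θ₀ := fun k => by
    conv_lhs => rw [← Category.comp_id k]
    exact theta_comp c b (𝟙 V) k
  -- from `W` to `U`
  let πB : (W : Scheme.{u}) ⟶ B := W.ι ≫ (𝔸(Idx.{u} 1; B) ↘ B)
  let gW := (πB ≫ i) ≫ p
  let lam : Γ((W : Scheme.{u}), ⊤) := W.ι.appTop lam₀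
  have hlam : IsUnit lam := isUnit_appTop_basicOpen lam₀
  obtain ⟨μ, ⟨wμ, eμ⟩, -⟩ := hc gW (smulCoord lam (pullCoord (πB ≫ i) rfl c))
  have hνW : IsUnit (gW.appTop ν) := hν.map _
  have hθμ : theta c b μ = lam * gW.appTop ν := by
    rw [← unitVal_congr c b μ wμ, eμ, precomp_smulCoord, unitVal_smulCoord, unitVal_congr c b (πB ≫ i) rfl,
      theta_comp, hi, ← appTop_comp, ← Category.assoc]
  have hμU : Set.range μ ⊆ Set.range U.ι := by
    rw [Scheme.Opens.range_ι]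
    refine range_subset_basicOpen μ ?_
    rw [← hk, hθμ]
    exact hlam.mul hνW
  let μ' := IsOpenImmersion.lift U.ι μ hμU
  have hμ' : μ' ≫ U.ι = μ := IsOpenImmersion.lift_fac _ _ _
  -- from `U` to `W`
  let gU := U.ι ≫ p
  have hθU : IsUnit (U.ι.appTop θ₀) := isUnit_appTop_basicOpen θ₀
  obtain ⟨ti, hti⟩ := hθU.exists_left_inv
  have hνU : IsUnit (gU.appTop ν) := hν.map _
  obtain ⟨ni, hni⟩ := hνU.exists_left_inv
  obtain ⟨k, ⟨wk, ek⟩, -⟩ := hc gU (smulCoord (gU.appTop ν * ti) (pullCoord U.ι rfl c))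
  have hθk : theta c b k = (k ≫ p).appTop ν := by
    rw [← unitVal_congr c b k wk, ek, precomp_smulCoord, unitVal_smulCoord, unitVal_congr c b U.ι rfl, hk, mul_assoc,
      hti, mul_one, wk]
  obtain ⟨σ, hσ⟩ := hB k hθk
  let ρ := AffineSpace.homOfVector σ fun _ : Idx.{u} 1 => U.ι.appTop θ₀ * ni
  have hρo : ρ ≫ (𝔸(Idx.{u} 1; B) ↘ B) = σ := AffineSpace.homOfVector_over _ _
  have hρc : ρ.appTop lam₀ = U.ι.appTop θ₀ * ni := AffineSpace.homOfVector_appTop_coord _ _ _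
  have hρW : Set.range ρ ⊆ Set.range W.ι := by
    rw [Scheme.Opens.range_ι]
    refine range_subset_basicOpen ρ ?_
    rw [hρc]
    exact hθU.mul (IsUnit.of_mul_eq_one _ hni)
  let ρ' := IsOpenImmersion.lift W.ι ρ hρW
  have hρ' : ρ' ≫ W.ι = ρ := IsOpenImmersion.lift_fac _ _ _
  have hρπ : ρ' ≫ πB ≫ i = k := by
    rw [show ρ' ≫ πB ≫ i = ((ρ' ≫ W.ι) ≫ (𝔸(Idx.{u} 1; B) ↘ B)) ≫ i by simp only [πB, Category.assoc], hρ', hρo, hσ]
  -- `μ ≫ σ` is the projection
  have hgμ : μ' ≫ gU = gW := by rw [← Category.assoc, hμ', wμ]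
  have e1 : μ'.appTop (U.ι.appTop θ₀) = lam * gW.appTop ν := by rw [← appTop_comp, hμ', ← hk, hθμ]
  have e2 : μ'.appTop (gU.appTop ν) = gW.appTop ν := by rw [← appTop_comp, hgμ]
  have e3 : μ'.appTop (gU.appTop ν * ti) * lam = 1 := by
    have : μ'.appTop ti * (lam * gW.appTop ν) = 1 := by rw [← e1, ← map_mul, hti, map_one]
    rw [map_mul, e2]
    rw [← this]
    ring
  have e4 : μ'.appTop (U.ι.appTop θ₀ * ni) = lam := by
    have : μ'.appTop ni * gW.appTop ν = 1 := by rw [← e2, ← map_mul, hni, map_one]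
    rw [map_mul, e1, mul_assoc, mul_comm (gW.appTop ν), this, mul_one]
  have hμk : μ' ≫ k = πB ≫ i := by
    refine hc.ext (by rw [Category.assoc, wk, hgμ]) ?_
    rw [← pullCoord_comp k wk μ' (by rw [Category.assoc] at *; exact hgμ) c, ek, pullCoord_smulCoord,
      pullCoord_comp U.ι rfl μ' (by exact hgμ) c]
    simp only [hμ']
    rw [eμ, smulCoord_smulCoord, e3, one_smulCoord]
  have hμσ : μ' ≫ σ = πB := by rw [← cancel_mono i, Category.assoc, hσ, hμk]
  refine ⟨W, ⟨μ', ρ', ?_, ?_⟩, rfl, ?_⟩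
  · rw [← cancel_mono W.ι, Category.assoc, hρ', Category.id_comp]
    refine AffineSpace.hom_ext (by rw [Category.assoc, hρo, hμσ]) fun j => ?_
    obtain ⟨j⟩ := j
    obtain rfl : j = 0 := Subsingleton.elim _ _
    rw [appTop_comp, hρc, e4]
  · rw [← cancel_mono U.ι, Category.assoc, hμ', Category.id_comp]
    have hg : ρ' ≫ gW = gU := by rw [show gW = πB ≫ i ≫ p from Category.assoc _ _ _, ← wk, ← hρπ]; simp only [Category.assoc]
    refine hc.ext (by rw [Category.assoc, wμ, hg]) ?_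
    rw [← pullCoord_comp μ wμ ρ' hg c, eμ, pullCoord_smulCoord, pullCoord_comp (πB ≫ i) rfl ρ' hg c]
    simp only [hρπ]
    have e5 : ρ'.appTop lam = U.ι.appTop θ₀ * ni := by rw [← appTop_comp, hρ', hρc]
    rw [ek, smulCoord_smulCoord, e5, show U.ι.appTop θ₀ * ni * (gU.appTop ν * ti) = (ti * U.ι.appTop θ₀) * (ni * gU.appTop ν) by ring,
      hti, hni, one_mul, one_smulCoord]
  · show μ' ≫ U.ι ≫ p = πB ≫ i ≫ p
    rw [reassoc_of% hμ', wμ]
    simp only [gW, πB, Category.assoc]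

end Scaling

variable {δ : X → ℤ}

theorem pullFun_openImm {Z Y : Scheme.{u}} (j : Z ⟶ Y) [IsOpenImmersion j] (δY : Y → ℤ) (α : Y → ℤ) :
    Cyc.pullFun j (fun z => δY (j z)) δY 0 α = fun z => α (j z) := funext fun x => by
  rw [pullFun_apply, if_pos (show δY (j x) = δY (j x) + 0 by simp)]
  have h : fibIdeal j x = IsLocalRing.maximalIdeal (Z.presheaf.stalk x) :=
    IsLocalRing.map_maximalIdeal_of_surjective _ (ConcreteCategory.bijective_of_isIso (j.stalkMap x)).2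
  have h1 : Module.length (Z.presheaf.stalk x) (Z.presheaf.stalk x ⧸ IsLocalRing.maximalIdeal (Z.presheaf.stalk x)) = 1 := by
    rw [Module.length_eq_one_iff, isSimpleModule_iff_isCoatom]
    exact (IsLocalRing.maximalIdeal.isMaximal _).out
  rw [h, h1]
  simp

theorem isShift_openImm {Z Y : Scheme.{u}} (j : Z ⟶ Y) (δY : Y → ℤ) : IsShift j (fun z => δY (j z)) δY 0 :=
  fun _ _ => (add_zero _).symm

end Groth.Agent.VBundLib
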