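import Groth.Agent.VBundLib.AffInj

/-! # Injectivity of pullback to an affine bundle: the theorem -/

set_option autoImplicit false
set_option backward.isDefEq.respectTransparency false
set_option linter.style.haveILetI false

universe u

open CategoryTheory CategoryTheory.Limits AlgebraicGeometry TopologicalSpace
open Groth.Agent.CycLib

noncomputable section

namespace Groth.Agent.VBundLib

open CycLib.AffBundle (Idx LocTriv)

variable {X : Scheme.{u}} {δ : X → ℤ}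

theorem locTriv_affineSpace (X : Scheme.{u}) (r : ℕ) : LocTriv (𝔸(Idx.{u} r; X) ↘ X) r := fun x =>
  ⟨X, 𝟙 X, inferInstance, 𝟙 _, ⟨x, rfl⟩, IsPullback.of_horiz_isIso ⟨by rw [Category.id_comp, Category.comp_id]⟩⟩

/-- The bundle of the quotient is where the functional vanishes. -/
theorem mem_range_of_notMem_basicOpen {E F L : X.Modules} {V : Scheme.{u}} {p : V ⟶ X} {c : Coord p E}
    {W : Scheme.{u}} {q : W ⟶ X} {cF : Coord q F} (hc : IsVB p c) (hF : IsVB q cF) {a : L ⟶ E} {b : E ⟶ F}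
    {hab : a ≫ b = 0} (hex : (ShortComplex.mk a b hab).ShortExact) (eL : L ≅ Coh.structureModule X) (ι : W ⟶ V)
    (wι : ι ≫ p = q) (eι : pullCoord ι wι c = b ≫ cF) {x : V}
    (hx : x ∉ V.basicOpen (theta c (eL.inv ≫ a) (𝟙 V))) : x ∈ Set.range ι := by
  let g := V.fromSpecResidueField x
  have h1 : theta c (eL.inv ≫ a) g = 0 := by
    rw [← Category.comp_id g, theta_comp]
    set t := g.appTop (theta c (eL.inv ≫ a) (𝟙 V)) with ht
    by_contra hne
    let e := (Scheme.ΓSpecIso (V.residueField x)).commRingCatIsoToRingEquiv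
    have hu : IsUnit t := by
      have : IsUnit (e t) := isUnit_iff_ne_zero.2 ((map_ne_zero_iff _ e.injective).2 hne)
      have := this.map e.symm
      rwa [RingEquiv.symm_apply_apply] at this
    have h2 := range_subset_basicOpen g hu
    rw [Scheme.range_fromSpecResidueField] at h2
    exact hx (h2 rfl)
  have h0 : a ≫ pullCoord g (rfl : g ≫ p = g ≫ p) c = 0 := by
    rw [← cancel_epi eL.inv, comp_zero]
    refine unitVal_injective ?_
    rw [← Category.assoc]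
    exact h1
  obtain ⟨k, hk⟩ := (IsVB.factors_iff hc hF hex wι eι g).2 h0
  have hr : Set.range g = {x} := Scheme.range_fromSpecResidueField x
  obtain ⟨z, hz⟩ : x ∈ Set.range g := hr.ge rfl
  exact ⟨k z, by rw [← Scheme.Hom.comp_apply, hk, hz]⟩

/-- Pullback to an affine bundle is injective. -/
theorem affine_injective (hX : Cyc.IsSetup X δ) {S : ShortComplex X.Modules} (hS : S.ShortExact)
    (eL : S.X₁ ≅ Coh.structureModule X) [Coh.IsQCoh S.X₂] [Coh.IsQCoh S.X₃] {n : ℕ}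
    (hE : FlatMod.IsFinLocFreeOfRank (n + 1) S.X₂) (hF : FlatMod.IsFinLocFreeOfRank n S.X₃) {V : Scheme.{u}}
    {p : V ⟶ X} {c : Coord p S.X₂} (hc : IsVB p c) {ν : Γ(X, ⊤)} (hν : IsUnit ν) {B : Scheme.{u}} (i : B ⟶ V)
    [Mono i] (hi : theta c (eL.inv ≫ S.f) i = (i ≫ p).appTop ν)
    (hB : ∀ {T : Scheme.{u}} (k : T ⟶ V), theta c (eL.inv ≫ S.f) k = (k ≫ p).appTop ν → ∃ h, h ≫ i = k)
    [Flat (i ≫ p)] [LocallyOfFiniteType (i ≫ p)] {δB : B → ℤ} (hBs : Cyc.IsSetup B δB)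
    (hδB : Cyc.DeltaCompat (i ≫ p) δB δ) (hsB : IsShift (i ≫ p) δB δ n) {k : ℤ} {α : AlgebraicCycle X ℤ}
    (hα : α ∈ Cyc.Zk X δ k) {γ : AlgebraicCycle B ℤ} (hγ : ⇑γ = Cyc.pullFun (i ≫ p) δB δ n ⇑α)
    (h0 : Cyc.RatEquivZero δB (k + n) γ) : Cyc.RatEquivZero δ k α := by
  haveI := hX.1
  haveI := hBs.1
  obtain ⟨_, _, _, _⟩ := isAffineHom_of_locTriv (hc.locTriv hE)
  obtain ⟨δV, hδV⟩ := exists_deltaCompat p δ
  obtain ⟨hV, hp⟩ := bundle_facts hX (hc.locTriv hE) hδV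
  haveI := hV.1
  let β := pullCycle hp hV.2.2 α
  refine injective hX hE hc hδV hα (β := β) rfl ?_
  obtain ⟨W0, e, -, he⟩ := exists_scaling hc (eL.inv ≫ S.f) hν i hi hB
  let U := V.basicOpen (theta c (eL.inv ≫ S.f) (𝟙 V))
  obtain ⟨_, _, _, _⟩ := isAffineHom_of_locTriv (locTriv_affineSpace B 1)
  obtain ⟨δA, hδA⟩ := exists_deltaCompat (𝔸(Idx.{u} 1; B) ↘ B) δB
  obtain ⟨hA, hsA⟩ := bundle_facts hBs (locTriv_affineSpace B 1) hδA
  haveI := hA.1
  let j : (U : Scheme.{u}) ⟶ 𝔸(Idx.{u} 1; B) := e.inv ≫ W0.ι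
  have w : j ≫ (𝔸(Idx.{u} 1; B) ↘ B) ≫ i ≫ p = U.ι ≫ p := by
    simp only [j, Category.assoc]
    rw [Iso.inv_comp_eq]
    simpa only [Category.assoc] using he.symm
  have hd : (fun z => δA (j z)) = fun z => δV (U.ι z) :=
    deltaCompat_unique (f := U.ι ≫ p)
      (w ▸ deltaCompat_comp (deltaCompat_comp hδB hδA) (deltaCompat_preimmersion j δA))
      (deltaCompat_comp hδV (deltaCompat_preimmersion U.ι δV))
  haveI : Flat ((𝔸(Idx.{u} 1; B) ↘ B) ≫ i ≫ p) := inferInstance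
  let γA := pullCycle hsA hA.2.2 γ
  have h1 : Cyc.RatEquivZero δA (k + n + (1 : ℕ)) γA := ratEquivZero_pull hsA hA.2.2 hBs.2.2 h0 γA rfl
  have hU : Cyc.IsSetup (U : Scheme.{u}) (fun z => δA (j z)) :=
    isSetup_of_lft j hA (deltaCompat_preimmersion j δA)
  haveI := hU.1
  let γU := pullCycle (isShift_openImm j δA) hU.2.2 γA
  have h2 : Cyc.RatEquivZero (fun z => δA (j z)) (k + n + (1 : ℕ) + 0) γU :=
    ratEquivZero_pull (isShift_openImm j δA) hU.2.2 hA.2.2 h1 γU rfl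
  have hval : ∀ z : (U : Scheme.{u}), γU z = β (U.ι z) := fun z => by
    have e1 : ⇑γU = Cyc.pullFun (U.ι ≫ p) (fun z => δA (j z)) δ ((n : ℤ) + (1 : ℕ) + 0) ⇑α := by
      show Cyc.pullFun j _ δA 0 (Cyc.pullFun _ δA δB (1 : ℕ) ⇑γ) = _
      rw [hγ, ← pullFun_comp hsB hsA hBs.2.2 hA.2.2, ← pullFun_comp (hsB.comp hsA) (isShift_openImm j δA) hA.2.2 hU.2.2, w]
    have e2 : Cyc.pullFun (U.ι ≫ p) (fun z => δV (U.ι z)) δ (((n + 1 : ℕ) : ℤ) + 0) ⇑α = fun z => β (U.ι z) := by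
      rw [pullFun_comp hp (isShift_openImm U.ι δV) hV.2.2 (hd ▸ hU.2.2), pullFun_openImm]
      rfl
    rw [e1, hd, show (n : ℤ) + (1 : ℕ) + 0 = ((n + 1 : ℕ) : ℤ) + 0 by push_cast; ring, e2]
  rw [show k + n + ((1 : ℕ) : ℤ) + 0 = k + ((n + 1 : ℕ) : ℤ) by push_cast; ring, hd] at h2
  obtain ⟨γ', hγ'k, hγ'U, hr⟩ := S1863.result V δV hV U (k + (n + 1 : ℕ)) β 0 (mem_Zk_pullFun hα rfl)
    (fun _ _ => rfl) γU 0 hval (fun _ => rfl) (by rw [Cyc.RatEquiv, sub_zero]; exact h2)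
  rw [zero_add] at hr
  haveI := hS.epi_g
  obtain ⟨W, q, cF, ι, wι, hι, hcF, eι⟩ := exists_subBundle hc S.g
  haveI := hι
  have hmap : AlgebraicCycle.map ι (fun d => δV (ι d)) δV (restrictCycle ι γ') = γ' := by
    ext x
    by_cases hx : x ∈ Set.range ι
    · obtain ⟨z, rfl⟩ := hx
      exact map_closed_apply ι _ z
    · rw [map_closed_apply_of_notMem ι _ hx]
      exact (hγ'U x (by_contra fun h => hx (mem_range_of_notMem_basicOpen hc hcF (a := S.f) (b := S.g) (hab := S.zero)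
        hS eL ι wι eι h))).symm
  have h3 : Cyc.RatEquivZero δV (k + (n + 1 : ℕ)) γ' := by
    rw [← hmap]
    exact push_eq_zero hc hcF (a := S.f) (b := S.g) (hab := S.zero) hS eL hE hF ι wι eι hX hδV
      fun z hz => hγ'k _ hz
  have h4 := ratEquiv_trans hr (show Cyc.RatEquiv δV (k + (n + 1 : ℕ)) γ' 0 by rw [Cyc.RatEquiv, sub_zero]; exact h3)
  rwa [Cyc.RatEquiv, sub_zero] at h4

end Groth.Agent.VBundLib
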