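import Groth.Agent.VBundLib.Ops
import Groth.Agent.CycLib.AffineFib

/-! # Affine space as a vector bundle; local triviality -/

set_option autoImplicit false
set_option backward.isDefEq.respectTransparency false
set_option backward.defeqAttrib.useBackward true
set_option linter.style.haveILetI false

universe u

open CategoryTheory CategoryTheory.Limits AlgebraicGeometry TopologicalSpace Opposite

noncomputable section

namespace Groth.Agent.VBundLib

variable {X : Scheme.{u}} {E F : X.Modules}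

open CycLib.AffBundle (Idx LocTriv)

/-- Multiplication of a global function by a function on the base. -/
def unitAct {T : Scheme.{u}} (g : T ⟶ X) (t : Γ(T, ⊤)) (U : X.Opens) (e : Γ(X, U)) : Γ(T, g ⁻¹ᵁ U) :=
  g.app U e * T.presheaf.map (homOfLE (le_top : g ⁻¹ᵁ U ≤ ⊤)).op t

theorem unitAct_add {T : Scheme.{u}} (g : T ⟶ X) (t : Γ(T, ⊤)) (U : X.Opens) (e e' : Γ(X, U)) :
    unitAct g t U (e + e') = unitAct g t U e + unitAct g t U e' := by
  simp only [unitAct, map_add, add_mul]

/-- Coordinates on the structure module given by a global function. -/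
def unitCoord {T : Scheme.{u}} (g : T ⟶ X) (t : Γ(T, ⊤)) : Coord g (Coh.structureModule X) :=
  ⟨PresheafOfModules.homMk
    { app := fun U => AddCommGrpCat.ofHom (AddMonoidHom.mk'
        (fun e => unitAct g t U.unop e)
        fun e e' => unitAct_add g t U.unop e e')
      naturality := fun U V i => by
        ext e
        rw [show i = (homOfLE (leOfHom i.unop)).op from Subsingleton.elim _ _]
        show g.app V.unop (X.presheaf.map (homOfLE (leOfHom i.unop)).op e) *
            T.presheaf.map (homOfLE (le_top : g ⁻¹ᵁ V.unop ≤ ⊤)).op t =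
          T.presheaf.map (homOfLE (g.preimage_mono (leOfHom i.unop))).op (g.app U.unop e *
            T.presheaf.map (homOfLE (le_top : g ⁻¹ᵁ U.unop ≤ ⊤)).op t)
        rw [map_mul, ← CommRingCat.comp_apply (T.presheaf.map _) (T.presheaf.map _), ← Functor.map_comp]
        exact congrArg (· * _) (ConcreteCategory.congr_hom (g.naturality (homOfLE (leOfHom i.unop)).op) e) }
    fun U r e => (congrArg (· * _) (map_mul (g.app U.unop).hom _ _)).trans (mul_assoc _ _ _)⟩

theorem cval_unitCoord {T : Scheme.{u}} (g : T ⟶ X) (t : Γ(T, ⊤)) (U : X.Opens) (e : Γ(X, U)) :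
    cval (unitCoord g t) U e = g.app U e * T.presheaf.map (homOfLE (le_top : g ⁻¹ᵁ U ≤ ⊤)).op t := rfl

/-- The value of coordinates on `1`. -/
def unitVal {T : Scheme.{u}} {g : T ⟶ X} (d : Coord g (Coh.structureModule X)) : Γ(T, ⊤) :=
  cval d ⊤ (1 : Γ(X, ⊤))

theorem unitVal_unitCoord {T : Scheme.{u}} (g : T ⟶ X) (t : Γ(T, ⊤)) : unitVal (unitCoord g t) = t := by
  show g.app ⊤ (1 : Γ(X, ⊤)) * T.presheaf.map (homOfLE (le_top : g ⁻¹ᵁ ⊤ ≤ ⊤)).op t = t
  rw [map_one, one_mul]
  exact ConcreteCategory.congr_hom (T.presheaf.map_id _) t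

theorem unitCoord_unitVal {T : Scheme.{u}} {g : T ⟶ X} (d : Coord g (Coh.structureModule X)) :
    unitCoord g (unitVal d) = d := by
  refine coord_ext fun U _ e => ?_
  rw [cval_unitCoord]
  have h1 : T.presheaf.map (homOfLE (le_top : g ⁻¹ᵁ U ≤ ⊤)).op (unitVal d) = cval d U (1 : Γ(X, U)) :=
    (cval_res d (le_top : U ≤ ⊤) (1 : Γ(X, ⊤))).trans (congrArg (cval d U) (map_one (X.presheaf.map _).hom))
  rw [h1]
  exact (cval_smul d U e (1 : Γ(X, U))).symm.trans (congrArg (cval d U) (mul_one (show Γ(X, U) from e)))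

theorem unitVal_pullCoord {T V : Scheme.{u}} {p : V ⟶ X} {g : T ⟶ X} (k : T ⟶ V) (w : k ≫ p = g)
    (c : Coord p (Coh.structureModule X)) : unitVal (pullCoord k w c) = k.appTop (unitVal c) :=
  (ConcreteCategory.congr_hom (Scheme.Hom.app_eq_appLE k (U := (⊤ : V.Opens))) (unitVal c)).symm

/-- Coordinates on a free module. -/
def freeCoord {r : ℕ} {T : Scheme.{u}} (g : T ⟶ X) (v : Idx.{u} r → Γ(T, ⊤)) : Coord g (FlatMod.freeMod X r) :=
  Sigma.desc fun i => unitCoord g (v ⟨i⟩)

theorem unitVal_freeCoord {r : ℕ} {T : Scheme.{u}} (g : T ⟶ X) (v : Idx.{u} r → Γ(T, ⊤)) (i : Fin r) :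
    unitVal (Sigma.ι (fun _ : Fin r => Coh.structureModule X) i ≫ freeCoord g v) = v ⟨i⟩ := by
  rw [freeCoord, Sigma.ι_desc, unitVal_unitCoord]

theorem freeCoord_ext {r : ℕ} {T : Scheme.{u}} {g : T ⟶ X} {d d' : Coord g (FlatMod.freeMod X r)}
    (h : ∀ i : Fin r, unitVal (Sigma.ι (fun _ : Fin r => Coh.structureModule X) i ≫ d) =
      unitVal (Sigma.ι (fun _ : Fin r => Coh.structureModule X) i ≫ d')) : d = d' := by
  refine Sigma.hom_ext _ _ fun i => ?_
  rw [← unitCoord_unitVal (Sigma.ι (fun _ : Fin r => Coh.structureModule X) i ≫ d), h, unitCoord_unitVal]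

/-- Affine space is the bundle of a free module. -/
theorem isVB_affineSpace (X : Scheme.{u}) (r : ℕ) :
    IsVB (𝔸(Idx.{u} r; X) ↘ X) (freeCoord (𝔸(Idx.{u} r; X) ↘ X) (AffineSpace.coord X)) := by
  intro T g d
  let v : Idx.{u} r → Γ(T, ⊤) := fun i =>
    unitVal (Sigma.ι (fun _ : Fin r => Coh.structureModule X) i.down ≫ d)
  refine ⟨AffineSpace.homOfVector g v, ⟨AffineSpace.homOfVector_over g v, freeCoord_ext fun i => ?_⟩, ?_⟩
  · rw [← pullCoord_precomp, unitVal_pullCoord, unitVal_freeCoord, AffineSpace.homOfVector_appTop_coord]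
  · rintro k ⟨w, hk⟩
    refine AffineSpace.hom_ext (w.trans (AffineSpace.homOfVector_over g v).symm) fun i => ?_
    obtain ⟨i⟩ := i
    rw [AffineSpace.homOfVector_appTop_coord]
    show _ = unitVal (Sigma.ι (fun _ : Fin r => Coh.structureModule X) i ≫ d)
    rw [← hk, ← pullCoord_precomp, unitVal_pullCoord, unitVal_freeCoord]

/-- Transport along an isomorphism of modules. -/
theorem IsVB.congr {V : Scheme.{u}} {p : V ⟶ X} {c : Coord p E} (h : IsVB p c) (e : E ≅ F) :
    IsVB p (e.inv ≫ c) := by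
  intro T g d
  obtain ⟨k, ⟨w, hk⟩, hu⟩ := h g (e.hom ≫ d)
  refine ⟨k, ⟨w, by rw [pullCoord_precomp, hk, e.inv_hom_id_assoc]⟩, ?_⟩
  rintro k' ⟨w', hk'⟩
  exact hu k' ⟨w', by rw [← hk', pullCoord_precomp, e.hom_inv_id_assoc]⟩

/-- The bundle of a locally free module is locally an affine space. -/
theorem IsVB.locTriv {V : Scheme.{u}} {p : V ⟶ X} {c : Coord p E} (h : IsVB p c) {r : ℕ}
    (hE : FlatMod.IsFinLocFreeOfRank r E) : LocTriv p r := by
  intro y
  obtain ⟨U, hy, ⟨φ⟩⟩ := hE y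
  have sq : IsPullback (pullback.fst p U.ι) (pullback.snd p U.ι) p U.ι := IsPullback.of_hasPullback _ _
  have h1 : IsVB (pullback.snd p U.ι) (baseCoord c sq) := h.baseChange sq
  have h2 : IsVB (pullback.snd p U.ι) _ := IsVB.congr h1 (((Scheme.Modules.restrictFunctorIsoPullback U.ι).app E).symm ≪≫ φ)
  obtain ⟨e, we, -⟩ := IsVB.exists_iso (isVB_affineSpace (↑U : Scheme.{u}) r) h2
  refine ⟨(U : Scheme.{u}), U.ι, inferInstance, e.hom ≫ pullback.fst p U.ι, ⟨⟨y, hy⟩, rfl⟩, ?_⟩
  have h4 : IsPullback e.hom (𝔸(Idx.{u} r; (↑U : Scheme.{u})) ↘ (↑U : Scheme.{u})) (pullback.snd p U.ι) (𝟙 _) :=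
    IsPullback.of_horiz_isIso ⟨by rw [Category.comp_id, we]⟩
  have h3 := h4.paste_horiz sq
  rwa [Category.id_comp] at h3

theorem isAffineHom_of_locTriv {V : Scheme.{u}} {p : V ⟶ X} {r : ℕ} (h : LocTriv p r) :
    IsAffineHom p ∧ LocallyOfFiniteType p ∧ Flat p ∧ Surjective p := by
  choose U j hj f hy sq using h
  let 𝒰 : X.OpenCover := Scheme.Cover.mkOfCovers X U j (fun x => ⟨x, hy x⟩) (fun x => hj x)
  have key : ∀ P : MorphismProperty Scheme.{u}, IsZariskiLocalAtTarget P →
      (∀ x, P (𝔸(Idx.{u} r; U x) ↘ U x)) → P p := fun P hP hx => by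
    refine IsZariskiLocalAtTarget.of_openCover (P := P) 𝒰 fun x => ?_
    have := hP.toRespects
    exact (P.cancel_left_of_respectsIso ((sq x).isoPullback.hom) (pullback.snd p (j x))).1
      ((sq x).isoPullback_hom_snd.symm ▸ hx x)
  exact ⟨key _ inferInstance fun _ => inferInstance, key _ inferInstance fun _ => inferInstance,
    key _ inferInstance fun _ => S7819.flat_affineSpace _ _, key _ inferInstance fun _ => inferInstance⟩

theorem hasRelDim_of_locTriv {V : Scheme.{u}} {p : V ⟶ X} {r : ℕ} (h : LocTriv p r) : Cyc.HasRelDim p r := by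
  intro y T hT
  obtain ⟨e⟩ := CycLib.AffBundle.nonempty_fibre_iso h y
  haveI := CycLib.AffBundle.isIntegral_poly e
  rw [irreducibleComponents_eq_singleton] at hT
  rw [Set.mem_singleton_iff.1 hT, (Homeomorph.Set.univ _).isHomeomorph.topologicalKrullDim_eq,
    e.hom.homeomorph.isHomeomorph.topologicalKrullDim_eq]
  show topologicalKrullDim (PrimeSpectrum (MvPolynomial (Idx.{u} r) (X.residueField y))) = r
  rw [PrimeSpectrum.topologicalKrullDim_eq_ringKrullDim,
    ringKrullDim_eq_of_ringEquiv (MvPolynomial.renameEquiv _ Equiv.ulift).toRingEquiv,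
    MvPolynomial.ringKrullDim_of_isNoetherianRing, ringKrullDim_eq_zero_of_field, zero_add, Nat.card_fin]

end Groth.Agent.VBundLib
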