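import Groth.Agent.VBundLib.Gysin
import Groth.Agent.CycLib.Chern.Roots

/-! # Injectivity of pullback to a vector bundle -/

set_option autoImplicit false
set_option backward.isDefEq.respectTransparency false
set_option linter.style.haveILetI false

universe u

open CategoryTheory CategoryTheory.Limits AlgebraicGeometry TopologicalSpace
open Groth.Agent.CycLib

noncomputable section

namespace Groth.Agent.VBundLib

open CycLib.AffBundle (Idx LocTriv)

variable {X : Scheme.{u}} {δ : X → ℤ}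

theorem isIso_of_locTriv_zero {V : Scheme.{u}} {p : V ⟶ X} (h : LocTriv p 0) : IsIso p := by
  choose U j hj f hy sq using h
  let 𝒰 : X.OpenCover := Scheme.Cover.mkOfCovers X U j (fun x => ⟨x, hy x⟩) (fun x => hj x)
  have : MorphismProperty.isomorphisms Scheme.{u} p := by
    refine IsZariskiLocalAtTarget.of_openCover (P := MorphismProperty.isomorphisms Scheme.{u}) 𝒰 fun x => ?_
    show IsIso (pullback.snd p (j x))
    rw [← (sq x).isoPullback_inv_snd]
    infer_instance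
  exact this

theorem pullFun_id (hX : Cyc.IsDimFun X δ) (α : X → ℤ) : Cyc.pullFun (𝟙 X) δ δ 0 α = α := funext fun x => by
  rw [pullFun_apply, if_pos (show δ x = δ ((𝟙 X : X ⟶ X) x) + 0 by simp)]
  have h : fibIdeal (𝟙 X) x = IsLocalRing.maximalIdeal (X.presheaf.stalk x) := by
    rw [fibIdeal, Scheme.Hom.stalkMap_id]
    exact Ideal.map_id _
  have h1 : Module.length (X.presheaf.stalk x) (X.presheaf.stalk x ⧸ IsLocalRing.maximalIdeal (X.presheaf.stalk x)) = 1 := by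
    rw [Module.length_eq_one_iff, isSimpleModule_iff_isCoatom]
    exact (IsLocalRing.maximalIdeal.isMaximal _).out
  rw [h, h1]
  simp

theorem mem_Zk_pullFun {V : Scheme.{u}} {p : V ⟶ X} {δV : V → ℤ} {k c : ℤ} {α : AlgebraicCycle X ℤ}
    (hα : α ∈ Cyc.Zk X δ k) {β : AlgebraicCycle V ℤ} (hβ : ⇑β = Cyc.pullFun p δV δ c ⇑α) :
    β ∈ Cyc.Zk V δV (k + c) := fun x hx => by
  rw [hβ, pullFun_apply]
  split_ifs with hd
  · rw [hα (p x) fun e => hx (by omega), zero_mul]
  · rfl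

theorem injective_of_rank_zero (hX : Cyc.IsSetup X δ) {V : Scheme.{u}} {p : V ⟶ X} (h : LocTriv p 0) {δV : V → ℤ}
    (hδ : Cyc.DeltaCompat p δV δ) {k : ℤ} {α : AlgebraicCycle X ℤ} {β : AlgebraicCycle V ℤ}
    (hβ : ⇑β = Cyc.pullFun p δV δ (0 : ℕ) ⇑α) (h0 : Cyc.RatEquivZero δV (k + (0 : ℕ)) β) :
    Cyc.RatEquivZero δ k α := by
  haveI := isIso_of_locTriv_zero h
  obtain ⟨hV, hs⟩ := bundle_facts hX h hδ
  haveI := hX.1
  haveI := hV.1
  have hd : ∀ v, δV v = δ (p v) := fun v => by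
    obtain ⟨n, hn, e⟩ := hδ v
    have : DimFormulaLib.resTrdegAt p v = 0 := FlatDim.resTrdegAt_preimmersion p v
    rw [show DimFormulaLib.resTrdegAt p v = n from hn, Nat.cast_eq_zero] at this
    simp [e, this]
  have hδ' : Cyc.DeltaCompat (inv p) δ δV := fun x =>
    ⟨0, (FlatDim.resTrdegAt_preimmersion (inv p) x).trans Nat.cast_zero.symm, by
      rw [hd, ← Scheme.Hom.comp_apply, IsIso.inv_hom_id]; simp⟩
  have hs' : IsShift (inv p) δ δV (0 : ℤ) := fun x _ => by
    rw [hd, ← Scheme.Hom.comp_apply, IsIso.inv_hom_id]; simp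
  have h1 := ratEquivZero_pull hs' hX.2.2 hV.2.2 h0 α (by
    rw [hβ, ← pullFun_comp hs hs' hV.2.2 hX.2.2, IsIso.inv_hom_id]
    simpa using (pullFun_id hX.2.2 ⇑α).symm)
  simpa using h1

open CycLib.Dual in
theorem injective_of_botFilt (hX : Cyc.IsSetup X δ) : ∀ {r : ℕ} {B : ℕ → X.Modules} {E : X.Modules},
    BotFilt r B E → (∀ i, PicF.IsInvertible (B i)) → ∀ {V : Scheme.{u}} {p : V ⟶ X} {c : Coord p E}, IsVB p c →
      ∀ {δV : V → ℤ}, Cyc.DeltaCompat p δV δ → ∀ {k : ℤ} {α : AlgebraicCycle X ℤ}, α ∈ Cyc.Zk X δ k →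
        ∀ {β : AlgebraicCycle V ℤ}, ⇑β = Cyc.pullFun p δV δ r ⇑α → Cyc.RatEquivZero δV (k + r) β →
          Cyc.RatEquivZero δ k α := by
  haveI := hX.1
  intro r B E hB
  induction hB with
  | @zero L E hz =>
    intro _ V p c hc δV hδ k α hα β hβ h0
    exact injective_of_rank_zero hX (hc.locTriv (rank_zero_of_isZero hz)) hδ hβ h0
  | @succ m L E F a b hab hex hF ih =>
    intro hL V p c hc δV hδ k α hα β hβ h0
    have hFr := hF.rank fun i => hL (i + 1)
    have hEr := (BotFilt.succ a b hab hex hF).rank hL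
    haveI := (GrassShLib.isCoh_of_rank hEr).1
    haveI := (GrassShLib.isCoh_of_rank hFr).1
    haveI := hex.epi_g
    obtain ⟨W, q, cF, ι, wι, hι, hcF, eι⟩ := exists_subBundle hc b
    haveI := hι
    obtain ⟨ζ, hζ, hζ0⟩ := ratEquivZero_sub_bundle hc hcF hex (hL 0) hEr hFr ι wι eι hX hδ hα hβ h0
    exact ih (fun i => hL (i + 1)) hcF (wι ▸ deltaCompat_comp hδ (deltaCompat_preimmersion ι δV)) hα hζ hζ0

/-- Pullback to a vector bundle is injective. -/
theorem injective (hX : Cyc.IsSetup X δ) {r : ℕ} {E : X.Modules} (hE : FlatMod.IsFinLocFreeOfRank r E)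
    {V : Scheme.{u}} {p : V ⟶ X} {c : Coord p E} (hc : IsVB p c) {δV : V → ℤ} (hδ : Cyc.DeltaCompat p δV δ)
    {k : ℤ} {α : AlgebraicCycle X ℤ} (hα : α ∈ Cyc.Zk X δ k) {β : AlgebraicCycle V ℤ}
    (hβ : ⇑β = Cyc.pullFun p δV δ r ⇑α) (h0 : Cyc.RatEquivZero δV (k + r) β) : Cyc.RatEquivZero δ k α := by
  haveI := hX.1
  obtain ⟨S, hS⟩ := exists_splitting hX 1 (fun _ => E) (fun _ => r) fun _ => hE
  obtain ⟨B, hB⟩ := hS 0
  obtain ⟨_, _, _, _⟩ := isAffineHom_of_locTriv (hc.locTriv hE)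
  obtain ⟨hV, hs⟩ := bundle_facts hX (hc.locTriv hE) hδ
  haveI := hV.1
  have sq : IsPullback (pullback.fst p S.π) (pullback.snd p S.π) p S.π := IsPullback.of_hasPullback _ _
  have hE' : FlatMod.IsFinLocFreeOfRank r ((Scheme.Modules.pullback S.π).obj E) := FlagLib.rank_pullback S.π E hE
  have hc' : IsVB (pullback.snd p S.π) (baseCoord c sq) := hc.baseChange sq
  obtain ⟨_, _, _, _⟩ := isAffineHom_of_locTriv (hc'.locTriv hE')
  obtain ⟨δ', hδ'⟩ := exists_deltaCompat (pullback.snd p S.π) S.δY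
  obtain ⟨hV', hs'⟩ := bundle_facts S.setup (hc'.locTriv hE') hδ'
  haveI := hV'.1
  have hfst : IsShift (pullback.fst p S.π) δ' δV S.d :=
    isShift_square sq S.setup hX hV hV' S.d (hasRelDim_of_isShift S.shift S.compat) S.compat hδ hδ'
  haveI : Flat (pullback.fst p S.π) := MorphismProperty.pullback_fst _ _ inferInstance
  let α' := pullCycle S.shift S.setup.2.2 α
  let β' := pullCycle hfst hV'.2.2 β
  have h1 : Cyc.RatEquivZero δ' (k + r + S.d) β' := ratEquivZero_pull hfst hV'.2.2 hV.2.2 h0 β' rfl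
  have h2 : ⇑β' = Cyc.pullFun (pullback.snd p S.π) δ' S.δY r ⇑α' := by
    show Cyc.pullFun (pullback.fst p S.π) δ' δV S.d ⇑β = Cyc.pullFun _ δ' S.δY r (Cyc.pullFun S.π S.δY δ S.d ⇑α)
    rw [hβ, ← pullFun_comp hs hfst hV.2.2 hV'.2.2, ← pullFun_comp S.shift hs' S.setup.2.2 hV'.2.2, sq.w,
      add_comm (r : ℤ)]
  have h3 := injective_of_botFilt S.setup hB (fun i => (B i).inv) hc' hδ' (mem_Zk_pullFun hα (β := α') rfl) h2
    (by rwa [show k + S.d + (r : ℤ) = k + r + S.d by ring])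
  exact S.inj α hα α' rfl h3

end Groth.Agent.VBundLib
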