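import Groth.Agent.VBundLib.Zero
import Groth.Agent.CycLib.Chern.Ops
import Groth.Agent.CycLib.Chern.Gysin
import Groth.Agent.S1945

/-! # Pullback to vector bundles and Gysin maps -/

set_option autoImplicit false
set_option backward.isDefEq.respectTransparency false
set_option linter.style.haveILetI false

universe u

open CategoryTheory CategoryTheory.Limits AlgebraicGeometry TopologicalSpace
open Groth.Agent.CycLib Groth.Agent.CycLib.Dual

noncomputable section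

namespace Groth.Agent.VBundLib

open CycLib.AffBundle (Idx LocTriv)

variable {X : Scheme.{u}} {δ : X → ℤ}

theorem deltaCompat_preimmersion {Z Y : Scheme.{u}} (i : Z ⟶ Y) [IsPreimmersion i] (δY : Y → ℤ) :
    Cyc.DeltaCompat i (fun z => δY (i z)) δY := fun z =>
  ⟨0, (FlatDim.resTrdegAt_preimmersion i z).trans Nat.cast_zero.symm, by simp⟩

/-- The standing facts about a locally trivial affine bundle. -/
theorem bundle_facts (hX : Cyc.IsSetup X δ) {V : Scheme.{u}} {p : V ⟶ X} {r : ℕ} (h : LocTriv p r) {δV : V → ℤ}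
    (hδ : Cyc.DeltaCompat p δV δ) : Cyc.IsSetup V δV ∧ IsShift p δV δ r := by
  obtain ⟨_, _, _, _⟩ := isAffineHom_of_locTriv h
  have hV := isSetup_of_lft p hX hδ
  exact ⟨hV, IsShift.of_relDim hV hX r (hasRelDim_of_locTriv h) hδ⟩

variable {E F L : X.Modules} {V : Scheme.{u}} {p : V ⟶ X} {c : Coord p E} {W : Scheme.{u}} {q : W ⟶ X}
  {cF : Coord q F} (hc : IsVB p c) (hF : IsVB q cF) {a : L ⟶ E} {b : E ⟶ F} {hab : a ≫ b = 0}
  (hex : (ShortComplex.mk a b hab).ShortExact) (hL : PicF.IsInvertible L) {r : ℕ}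
  (hEr : FlatMod.IsFinLocFreeOfRank (r + 1) E) (hFr : FlatMod.IsFinLocFreeOfRank r F)
  (ι : W ⟶ V) [IsClosedImmersion ι] (wι : ι ≫ p = q) (eι : pullCoord ι wι c = b ≫ cF)
  (hX : Cyc.IsSetup X δ) {δV : V → ℤ} (hδ : Cyc.DeltaCompat p δV δ)

include hc hF hex hL hEr hFr wι eι hX hδ in
/-- The Gysin map of the smaller bundle takes pullbacks to pullbacks. -/
theorem gysin_bundle {k : ℤ} {α : AlgebraicCycle X ℤ} (hα : α ∈ Cyc.Zk X δ k) {β : AlgebraicCycle V ℤ}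
    (hβ : ⇑β = Cyc.pullFun p δV δ (r + 1 : ℕ) ⇑α) {ζ : AlgebraicCycle W ℤ}
    (hζ : ⇑ζ = Cyc.pullFun q (fun d => δV (ι d)) δ r ⇑α) (w : (ξ : V) → Cyc.secFibre (dd ((Scheme.Modules.pullback p).obj L)) ξ)
    (hw : ∀ ξ, w ξ ≠ 0) (γ : AlgebraicCycle W ℤ)
    (hγ : ∀ d, γ d = Cyc.c1CapFun δV (dd ((Scheme.Modules.pullback p).obj L)) ⇑β
      (Cyc.gysinChoice _ (dualSec (AmpleLib.isInvertible_pullback p hL) (tautMap c a)) w) (ι d)) :
    Cyc.RatEquiv (fun d => δV (ι d)) (k + r) γ ζ := by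
  subst wι
  obtain ⟨_, _, _, _⟩ := isAffineHom_of_locTriv (hc.locTriv hEr)
  obtain ⟨_, _, _, _⟩ := isAffineHom_of_locTriv (hF.locTriv hFr)
  obtain ⟨hzero, hreg⟩ := zero_data hc hF hex hL hEr hFr ι rfl eι
  have hV := (bundle_facts hX (hc.locTriv hEr) hδ).1
  have hα' : α ∈ Cyc.Zk X δ (k - 1 + 1) := by rwa [sub_add_cancel]
  have h := S1945.result V X W δV δ hV hX p r (hasRelDim_of_locTriv (hc.locTriv hEr)) hδ
    (dd ((Scheme.Modules.pullback p).obj L)) (isInvertible_dd (AmpleLib.isInvertible_pullback p hL))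
    (dualSec (AmpleLib.isInvertible_pullback p hL) (tautMap c a)) hreg ι hzero
    (hasRelDim_of_locTriv (hF.locTriv hFr)) (k - 1) α hα' w hw γ ζ
    (fun d => by rw [hγ d, hβ]; norm_num) hζ
  rwa [show k - 1 + (r : ℤ) + 1 = k + r by ring] at h

include hc hF hex hL hEr hFr wι eι hX hδ in
/-- If a pullback to a bundle dies, so does the pullback to the smaller bundle. -/
theorem ratEquivZero_sub_bundle {k : ℤ} {α : AlgebraicCycle X ℤ} (hα : α ∈ Cyc.Zk X δ k) {β : AlgebraicCycle V ℤ}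
    (hβ : ⇑β = Cyc.pullFun p δV δ (r + 1 : ℕ) ⇑α) (h0 : Cyc.RatEquivZero δV (k + (r + 1 : ℕ)) β) :
    ∃ ζ : AlgebraicCycle W ℤ, ⇑ζ = Cyc.pullFun q (fun d => δV (ι d)) δ r ⇑α ∧
      Cyc.RatEquivZero (fun d => δV (ι d)) (k + r) ζ := by
  obtain ⟨_, _, _, _⟩ := isAffineHom_of_locTriv (hc.locTriv hEr)
  obtain ⟨_, _, _, _⟩ := isAffineHom_of_locTriv (hF.locTriv hFr)
  have hV := (bundle_facts hX (hc.locTriv hEr) hδ).1
  haveI := hX.1
  haveI := hV.1
  have hq : Cyc.DeltaCompat q (fun d => δV (ι d)) δ := wι ▸ deltaCompat_comp hδ (deltaCompat_preimmersion ι δV)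
  obtain ⟨hW, hsh⟩ := bundle_facts hX (hF.locTriv hFr) hq
  haveI := hW.1
  let ζ := pullCycle hsh hW.2.2 α
  have hM := isInvertible_dd (AmpleLib.isInvertible_pullback p hL)
  obtain ⟨w, hw⟩ := exists_secs hM
  let γ := gysinHom hV.2.2 hM ι
    (Cyc.gysinChoice _ (dualSec (AmpleLib.isInvertible_pullback p hL) (tautMap c a)) w) β
  have h1 := gysin_bundle hc hF hex hL hEr hFr ι wι eι hX hδ hα hβ (ζ := ζ) rfl w hw γ fun _ => rfl
  have h2 : Cyc.RatEquivZero (fun d => δV (ι d)) (k + r) γ :=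
    gysin_ratEquivZero hV hM (zero_data hc hF hex hL hEr hFr ι wι eι).1 hw
      (by rwa [show k + (r : ℤ) + 1 = k + (r + 1 : ℕ) by push_cast; ring]) γ fun _ => rfl
  refine ⟨ζ, rfl, ?_⟩
  have h3 := ratEquiv_trans (ratEquiv_symm hW.2.2 h1) (show Cyc.RatEquiv (fun d => δV (ι d)) (k + r) γ 0 by
    rw [Cyc.RatEquiv, sub_zero]; exact h2)
  rwa [Cyc.RatEquiv, sub_zero] at h3

end Groth.Agent.VBundLib
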