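import Groth.Agent.CycLib.Chern.Dual
import Groth.Agent.ModTensor.Basic

/-! # The dual map through any internal hom -/

set_option autoImplicit false
set_option backward.isDefEq.respectTransparency false
set_option linter.style.haveILetI false

universe u

open CategoryTheory CategoryTheory.MonoidalCategory CategoryTheory.Limits AlgebraicGeometry TopologicalSpace
open Groth.Agent.CycLib.Dual
open scoped MonoidalCategory

noncomputable section

namespace Groth.Agent.VBundLib

variable {X : Scheme.{u}}

local instance hasHF (M : X.Modules) : ModSite.HasSheafHom (O := X.sheaf) M :=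
  ModTensor.hasSheafHom (O := X.sheaf) M

/-- The internal hom as a right adjoint of tensoring on the left. -/
def adjL (F : X.Modules) : (DCoh.tensorBi (X := X)).obj F ⊣ StalkHomLib.hF F :=
  (ModSite.sheafHomAdj (O := X.sheaf) F).ofNatIsoLeft (ModTensor.tensorSymm X.sheaf F)

/-- The comparison of a given internal hom with the chosen one. -/
def ddIso (F : X.Modules) [DCoh.HasSheafHom F] :
    (DCoh.sheafHom F).obj (Coh.structureModule X) ≅ dd F :=
  (Adjunction.rightAdjointUniq (DCoh.sheafHomAdj F) (adjL F)).app _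

theorem symm_natural {M N : X.Modules} (a : M ⟶ N) (G : X.Modules) :
    (ModTensor.tensorSymm X.sheaf M).inv.app G ≫ ((DCoh.tensorBi (X := X)).obj G).map a =
      ((DCoh.tensorBi (X := X)).map a).app G ≫ (ModTensor.tensorSymm X.sheaf N).inv.app G := by
  let F := ModTensor.shF X.sheaf
  let P := ModTensor.preFunctor X.sheaf
  show F.map (β_ (P.obj G) (P.obj M)).inv ≫ F.map (P.obj G ◁ P.map a) =
    F.map (P.map a ▷ P.obj G) ≫ F.map (β_ (P.obj G) (P.obj N)).inv
  rw [← F.map_comp, ← F.map_comp]
  congr 1
  rw [Iso.inv_comp_eq, ← Category.assoc, Iso.eq_comp_inv]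
  exact BraidedCategory.braiding_naturality_right (P.obj G) (P.map a)

theorem adjL_conj {M N : X.Modules} (a : M ⟶ N) :
    ((CategoryTheory.conjugateEquiv (adjL N) (adjL M)) ((DCoh.tensorBi (X := X)).map a)).app
      (Coh.structureModule X) = tr a := by
  apply ((adjL M).homEquiv _ _).symm.injective
  rw [Adjunction.homEquiv_counit, conjugateEquiv_counit]
  rw [Adjunction.homEquiv_counit]
  let G := dd N
  let x := tr a
  show ((DCoh.tensorBi (X := X)).map a).app G ≫ (ModTensor.tensorSymm X.sheaf N).inv.app G ≫
      StalkHomLib.ev N (Coh.structureModule X) =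
    ((DCoh.tensorBi (X := X)).obj M).map x ≫ (ModTensor.tensorSymm X.sheaf M).inv.app (dd M) ≫
      StalkHomLib.ev M (Coh.structureModule X)
  have h1 := (ModTensor.tensorSymm X.sheaf M).inv.naturality x
  have h2 : ((ModSite.tensorBi X.sheaf).flip.obj M).map x ≫ StalkHomLib.ev M (Coh.structureModule X) =
      ((DCoh.tensorBi (X := X)).obj G).map a ≫ StalkHomLib.ev N (Coh.structureModule X) := by
    refine (Adjunction.homEquiv_counit _ _ _ _).symm.trans ?_
    exact ((ModSite.sheafHomAdj (O := X.sheaf) M).homEquiv G (Coh.structureModule X)).symm_apply_apply _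
  rw [← Category.assoc, ← symm_natural a G, Category.assoc]
  refine (congrArg ((ModTensor.tensorSymm X.sheaf M).inv.app G ≫ ·) h2.symm).trans ?_
  rw [← Category.assoc, ← Category.assoc]
  exact congrArg (· ≫ StalkHomLib.ev M (Coh.structureModule X)) h1.symm

theorem conj_comp_ddIso {M N : X.Modules} (a : M ⟶ N) [DCoh.HasSheafHom M] [DCoh.HasSheafHom N] :
    ((CategoryTheory.conjugateEquiv (DCoh.sheafHomAdj N) (DCoh.sheafHomAdj M))
      ((DCoh.tensorBi (X := X)).map a)).app (Coh.structureModule X) ≫ (ddIso M).hom = (ddIso N).hom ≫ tr a := by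
  rw [← adjL_conj]
  show ((CategoryTheory.conjugateEquiv (DCoh.sheafHomAdj N) (DCoh.sheafHomAdj M)) _ ≫
      (CategoryTheory.conjugateEquiv (DCoh.sheafHomAdj M) (adjL M)) (𝟙 _)).app _ =
    ((CategoryTheory.conjugateEquiv (DCoh.sheafHomAdj N) (adjL N)) (𝟙 _) ≫
      (CategoryTheory.conjugateEquiv (adjL N) (adjL M)) _).app _
  rw [conjugateEquiv_comp, conjugateEquiv_comp, Category.id_comp, Category.comp_id]

end Groth.Agent.VBundLib
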