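import Groth.Agent.VBundLib.TopChern
import Groth.Agent.CycLib.PushPull

/-! # The class of a sub-bundle: the theorem -/

set_option autoImplicit false
set_option backward.isDefEq.respectTransparency false
set_option linter.style.haveILetI false

universe u

open CategoryTheory CategoryTheory.Limits AlgebraicGeometry TopologicalSpace
open Groth.Agent.CycLib Groth.Agent.CycLib.Dual

noncomputable section

namespace Groth.Agent.VBundLib

open CycLib.AffBundle (LocTriv)

variable {X : Scheme.{u}} {δ : X → ℤ}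

theorem ratEquiv_of_pull (hX : Cyc.IsSetup X δ) {r : ℕ} {E : X.Modules} (hE : FlatMod.IsFinLocFreeOfRank r E)
    {V : Scheme.{u}} {p : V ⟶ X} {c : Coord p E} (hc : IsVB p c) {δV : V → ℤ} (hδ : Cyc.DeltaCompat p δV δ)
    {k : ℤ} {a b : AlgebraicCycle X ℤ} (ha : a ∈ Cyc.Zk X δ k) (hb : b ∈ Cyc.Zk X δ k) {a' b' : AlgebraicCycle V ℤ}
    (ha' : ⇑a' = Cyc.pullFun p δV δ r ⇑a) (hb' : ⇑b' = Cyc.pullFun p δV δ r ⇑b)
    (h : Cyc.RatEquiv δV (k + r) a' b') : Cyc.RatEquiv δ k a b := by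
  refine injective hX hE hc hδ (fun x hx => ?_) (β := a' - b') ?_ h
  · rw [Function.locallyFinsuppWithin.coe_sub, Pi.sub_apply, ha x hx, hb x hx, sub_zero]
  · funext x
    rw [Function.locallyFinsuppWithin.coe_sub, Pi.sub_apply, ha', hb', pullFun_apply, pullFun_apply, pullFun_apply]
    split_ifs
    · exact (sub_mul _ _ _).symm
    · rfl

theorem pullback_fst_flat {Y V : Scheme.{u}} (p : V ⟶ X) (π : Y ⟶ X) [Flat π] : Flat (pullback.fst p π) :=
  MorphismProperty.pullback_fst _ _ inferInstance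

/-- The sub-bundle of corank `e` is the pullback of the top Chern class. -/
theorem push_eq_top (hX : Cyc.IsSetup X δ) {r' e : ℕ} {E : X.Modules} (hE : FlatMod.IsFinLocFreeOfRank e E)
    {G G' : X.Modules} {a : dd E ⟶ G} {b : G ⟶ G'} {hab : a ≫ b = 0} (hex : (ShortComplex.mk a b hab).ShortExact)
    (hG' : FlatMod.IsFinLocFreeOfRank r' G') {V : Scheme.{u}} {p : V ⟶ X} {c : Coord p G} {W : Scheme.{u}}
    {q : W ⟶ X} {cF : Coord q G'} (hc : IsVB p c) (hF : IsVB q cF) (ι : W ⟶ V) [IsClosedImmersion ι]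
    (wι : ι ≫ p = q) (eι : pullCoord ι wι c = b ≫ cF) {P : Scheme.{u}} {pp : P ⟶ X} {O1 : P.Modules}
    {qq : (Scheme.Modules.pullback pp).obj E ⟶ O1} (hP : KRR.IsProjBundle pp E O1 qq) [IsProper pp] {δP : P → ℤ}
    (hPs : Cyc.IsSetup P δP) (hδP : Cyc.DeltaCompat pp δP δ) {δV : V → ℤ} (hδ : Cyc.DeltaCompat p δV δ) {k : ℤ}
    {α : AlgebraicCycle X ℤ} (hα : α ∈ Cyc.Zk X δ k) {γ : Fin (e + 1) → AlgebraicCycle X ℤ}
    (hγ : Cyc.IsChernCap pp δ δP O1 e k α γ) {β' : AlgebraicCycle W ℤ}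
    (hβ' : ⇑β' = Cyc.pullFun q (fun d => δV (ι d)) δ (r' : ℤ) ⇑α) {β : AlgebraicCycle V ℤ}
    (hβ : ⇑β = Cyc.pullFun p δV δ ((r' : ℤ) + e) ⇑(γ (Fin.last e))) :
    Cyc.RatEquiv δV (k + r') (AlgebraicCycle.map ι (fun d => δV (ι d)) δV β') β := by
  haveI := hX.1
  have hGr : FlatMod.IsFinLocFreeOfRank (e + r') G := rank_ext hex (rank_dd hE) hG'
  obtain ⟨_, _, _, _⟩ := isAffineHom_of_locTriv (hc.locTriv hGr)
  obtain ⟨_, _, _, _⟩ := isAffineHom_of_locTriv (hF.locTriv hG')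
  obtain ⟨hV, hp⟩ := bundle_facts hX (hc.locTriv hGr) hδ
  have hq : Cyc.DeltaCompat q (fun d => δV (ι d)) δ := wι ▸ deltaCompat_comp hδ (deltaCompat_preimmersion ι δV)
  obtain ⟨hW, hsh⟩ := bundle_facts hX (hF.locTriv hG') hq
  haveI := hV.1
  haveI := hW.1
  have hpush : AlgebraicCycle.map ι (fun d => δV (ι d)) δV β' ∈ Cyc.Zk V δV (k - e + (e + r' : ℕ)) := fun x hx => by
    by_cases hr : x ∈ Set.range ι
    · obtain ⟨d, rfl⟩ := hr
      rw [map_closed_apply]
      exact mem_Zk_pullFun hα hβ' d (fun h => hx (by rw [show δV (ι d) = _ from h]; push_cast; ring))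
    · exact map_closed_apply_of_notMem ι β' hr
  obtain ⟨x0, y0, hx0, hy0, hr0⟩ := S1944.result V X δV δ hV hX p (e + r')
    (hasRelDim_of_locTriv (hc.locTriv hGr)) hδ (exists_hloc (hc.locTriv hGr)) (k - e) _ hpush
  have hk : k - (e : ℤ) + ((e + r' : ℕ) : ℤ) = k + r' := by push_cast; ring
  rw [hk] at hr0
  have hγe : γ (Fin.last e) ∈ Cyc.Zk X δ (k - e) := by simpa using hγ.2.1 (Fin.last e)
  suffices h : Cyc.RatEquiv δ (k - e) x0 (γ (Fin.last e)) by
    refine ratEquiv_trans hr0 ?_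
    have h1 := ratEquivZero_pull hp hV.2.2 hX.2.2 h (y0 - β) ?_
    · rwa [hk] at h1
    · funext x
      rw [Function.locallyFinsuppWithin.coe_sub, Pi.sub_apply, hy0, hβ,
        show (r' : ℤ) + e = ((e + r' : ℕ) : ℤ) by push_cast; ring, pullFun_apply, pullFun_apply, pullFun_apply]
      split_ifs
      · exact (sub_mul _ _ _).symm
      · rfl
  -- after splitting
  obtain ⟨S, hS⟩ := exists_splitting hX 1 (fun _ => E) (fun _ => e) fun _ => hE
  obtain ⟨B, hB⟩ := hS 0
  obtain ⟨D, D', hD, hD', hprod⟩ := exists_dualLines S.setup hB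
  obtain ⟨ed⟩ := nonempty_pullback_dd S.π (flf_of_rank hE)
  refine S.ratEquiv_of_cls hx0 hγe ?_
  rw [S.cls_chern_pull hX hE hB hP hPs hδP hγ (Fin.last e), Fin.val_last, ← hprod]
  have sq : IsPullback (pullback.fst p S.π) (pullback.snd p S.π) p S.π := IsPullback.of_hasPullback _ _
  have sqF : IsPullback (pullback.fst q S.π) (pullback.snd q S.π) q S.π := IsPullback.of_hasPullback _ _
  let ι' : pullback q S.π ⟶ pullback p S.π := pullback.lift (pullback.fst q S.π ≫ ι) (pullback.snd q S.π)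
    (by rw [Category.assoc, wι]; exact pullback.condition)
  have hfst : ι' ≫ pullback.fst p S.π = pullback.fst q S.π ≫ ι := pullback.lift_fst _ _ _
  have sqι : IsPullback ι' (pullback.fst q S.π) (pullback.fst p S.π) ι := by
    refine IsPullback.of_right ?_ hfst sq.flip
    rw [show ι' ≫ pullback.snd p S.π = pullback.snd q S.π from pullback.lift_snd _ _ _, wι]
    exact sqF.flip
  haveI : IsClosedImmersion ι' := MorphismProperty.of_isPullback sqι.flip inferInstance
  have hexY := DCohLib.shortExact_pullback_of_isFlat S.π (ShortComplex.mk a b hab) hex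
    (fun x => PullbackMod.isFlat_of_isFinLocFree G' (flf_of_rank hG') x)
  have hG'Y : FlatMod.IsFinLocFreeOfRank r' ((Scheme.Modules.pullback S.π).obj G') := FlagLib.rank_pullback S.π G' hG'
  have hGY : FlatMod.IsFinLocFreeOfRank (e + r') ((Scheme.Modules.pullback S.π).obj G) := FlagLib.rank_pullback S.π G hGr
  have hc' : IsVB (pullback.snd p S.π) (baseCoord c sq) := hc.baseChange sq
  have hF' : IsVB (pullback.snd q S.π) (baseCoord cF sqF) := hF.baseChange sqF
  have eι' : pullCoord ι' (pullback.lift_snd _ _ _) (baseCoord c sq) =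
      (Scheme.Modules.pullback S.π).map b ≫ baseCoord cF sqF := by
    refine down_injective ?_
    have h1 : down ((Scheme.Modules.pullback S.π).map b ≫ baseCoord cF sqF) = b ≫ down (baseCoord cF sqF) := by
      rw [down, down, Adjunction.homEquiv_naturality_left, Category.assoc]
    rw [h1, down_pullCoord, down_baseCoord, down_baseCoord, ← pullCoord_precomp, ← eι, pullCoord_comp,
      pullCoord_comp]
    simp only [hfst]
  obtain ⟨_, _, _, _⟩ := isAffineHom_of_locTriv (hc'.locTriv hGY)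
  obtain ⟨_, _, _, _⟩ := isAffineHom_of_locTriv (hF'.locTriv hG'Y)
  obtain ⟨δ', hδ'⟩ := exists_deltaCompat (pullback.snd p S.π) S.δY
  obtain ⟨hV', hp'⟩ := bundle_facts S.setup (hc'.locTriv hGY) hδ'
  have hδW : Cyc.DeltaCompat (pullback.snd q S.π) (fun z => δ' (ι' z)) S.δY := by
    have := deltaCompat_comp hδ' (deltaCompat_preimmersion ι' δ')
    rwa [show ι' ≫ pullback.snd p S.π = pullback.snd q S.π from pullback.lift_snd _ _ _] at this
  obtain ⟨hW', hq'⟩ := bundle_facts S.setup (hF'.locTriv hG'Y) hδW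
  haveI := hV'.1
  haveI := hW'.1
  have hdim := hasRelDim_of_isShift S.shift S.compat
  have hsV : IsShift (pullback.fst p S.π) δ' δV S.d :=
    isShift_square sq S.setup hX hV hV' S.d hdim S.compat hδ hδ'
  have hsW : IsShift (pullback.fst q S.π) (fun z => δ' (ι' z)) (fun d => δV (ι d)) S.d :=
    isShift_square sqF S.setup hX hW hW' S.d hdim S.compat hq hδW
  haveI := pullback_fst_flat p S.π
  haveI := pullback_fst_flat q S.π
  let ζ := pullCycle hsW hW'.2.2 β'
  have hζ : ⇑ζ = Cyc.pullFun (pullback.snd q S.π) (fun z => δ' (ι' z)) S.δY r' ⇑(S.P α) := by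
    show Cyc.pullFun (pullback.fst q S.π) (fun z => δ' (ι' z)) (fun d => δV (ι d)) S.d ⇑β' =
      Cyc.pullFun (pullback.snd q S.π) (fun z => δ' (ι' z)) S.δY r' (Cyc.pullFun S.π S.δY δ S.d ⇑α)
    rw [hβ', ← pullFun_comp hsh hsW hW.2.2 hW'.2.2, ← pullFun_comp S.shift hq' S.setup.2.2 hW'.2.2, sqF.w,
      add_comm (r' : ℤ)]
  obtain ⟨x, hx, hcls, hrel⟩ := push_pull_chain S.setup (hD.of_iso ed.symm) (fun i => (D i).inv) D'
    (fun i _ => hD' i) hexY hG'Y hc' hF' ι' (pullback.lift_snd _ _ _) eι' hδ' (S.P_mem hα) hζ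
  rw [← hcls]
  refine cls_eq_of_ratEquiv S.setup (k := k + S.d - e) ?_
  let η0 := pullCycle hp' hV'.2.2 (S.P x0)
  let η := pullCycle hp' hV'.2.2 x
  have hx0' : S.P x0 ∈ Cyc.Zk S.Y S.δY (k + S.d - e) := by
    rw [show k + (S.d : ℤ) - e = k - e + S.d by ring]
    exact S.P_mem hx0
  refine ratEquiv_of_pull S.setup hGY hc' hδ' hx0' hx (a' := η0) (b' := η) rfl rfl ?_
  rw [show k + (S.d : ℤ) - e + ((e + r' : ℕ) : ℤ) = k + S.d + r' by push_cast; ring]
  refine ratEquiv_trans ?_ (hrel η rfl)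
  let y' := pullCycle hsV hV'.2.2 y0
  let m := AlgebraicCycle.map ι (fun d => δV (ι d)) δV β'
  have hy' : y' = η0 := DFunLike.coe_injective (by
    show Cyc.pullFun (pullback.fst p S.π) δ' δV S.d ⇑y0 = Cyc.pullFun _ δ' S.δY _ (Cyc.pullFun S.π S.δY δ S.d ⇑x0)
    rw [hy0, ← pullFun_comp hp hsV hV.2.2 hV'.2.2, ← pullFun_comp S.shift hp' S.setup.2.2 hV'.2.2, sq.w, add_comm])
  have hmap : ⇑(AlgebraicCycle.map ι' (fun z => δ' (ι' z)) δ' ζ) = Cyc.pullFun (pullback.fst p S.π) δ' δV S.d ⇑m :=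
    map_pullFun sqι.flip hV'.2.2 hW'.2.2 (deltaCompat_preimmersion ι δV) (deltaCompat_preimmersion ι' δ') hsV hsW β' ζ rfl
  have h2 := ratEquivZero_pull hsV hV'.2.2 hV.2.2 hr0
    (AlgebraicCycle.map ι' (fun z => δ' (ι' z)) δ' ζ - η0) (by
      funext x
      rw [Function.locallyFinsuppWithin.coe_sub, Pi.sub_apply, hmap, ← hy', pullFun_apply]
      show _ - Cyc.pullFun (pullback.fst p S.π) δ' δV S.d ⇑y0 x = _
      rw [pullFun_apply, pullFun_apply]
      split_ifs
      · exact (sub_mul _ _ _).symm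
      · rfl)
  exact ratEquiv_symm hV'.2.2 (show Cyc.RatEquiv δ' (k + S.d + r') (AlgebraicCycle.map ι' (fun z => δ' (ι' z)) δ' ζ) η0 by
    rw [show k + (S.d : ℤ) + r' = k + r' + S.d by ring]; exact h2)

end Groth.Agent.VBundLib
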