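import Groth.Agent.VBundLib.Push
import Groth.Agent.CycLib.Restrict

/-! # Rank decomposition and rational equivalence -/

set_option autoImplicit false
set_option backward.isDefEq.respectTransparency false
set_option linter.style.haveILetI false

universe u

open CategoryTheory CategoryTheory.Limits AlgebraicGeometry TopologicalSpace
open Groth.Agent.CycLib Groth.Agent.CycLib.Dual Groth.Agent.PullbackMod

noncomputable section

namespace Groth.Agent.VBundLib

variable {X : Scheme.{u}}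

/-- Where a locally free module has a given rank. -/
def rankOpen {M : X.Modules} (hM : FlatMod.IsFinLocFree M) (n : ℕ) : X.Opens :=
  ⟨{x | FreeAt n M x}, isOpen_iff_forall_mem_open.2 fun x hx => by
    obtain ⟨hq, hfp⟩ := isQCoh_and_isFP_of_isFinLocFree M hM
    haveI := hq
    obtain ⟨U, hxU, ⟨i⟩⟩ := exists_nhd_freeAt M hfp hx
    exact ⟨U, fun y hy => freeAt_of_restrict_iso M i hy, U.2, hxU⟩⟩

theorem exists_rank {M : X.Modules} (hM : FlatMod.IsFinLocFree M) (x : X) : ∃ n : ℕ, x ∈ rankOpen hM n := by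
  obtain ⟨hq, hfp⟩ := isQCoh_and_isFP_of_isFinLocFree M hM
  haveI := hq
  obtain ⟨U, n, hx, ⟨i⟩⟩ := hM x
  exact ⟨n, freeAt_of_restrict_iso M i hx⟩

theorem rankOpen_unique {M : X.Modules} (hM : FlatMod.IsFinLocFree M) {x : X} {n m : ℕ} (h : x ∈ rankOpen hM n)
    (h' : x ∈ rankOpen hM m) : n = m := by
  haveI := (isQCoh_and_isFP_of_isFinLocFree M hM).1
  exact freeAt_unique M h h'

theorem isClosed_rankOpen {M : X.Modules} (hM : FlatMod.IsFinLocFree M) (n : ℕ) :
    IsClosed (rankOpen hM n : Set X) := by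
  rw [← isOpen_compl_iff, isOpen_iff_forall_mem_open]
  intro x hx
  obtain ⟨m, hm⟩ := exists_rank hM x
  exact ⟨rankOpen hM m, fun y hy hy' => hx ((rankOpen_unique hM hy' hy).symm ▸ hm), (rankOpen hM m).2, hm⟩

theorem isClosedImmersion_rank {M : X.Modules} (hM : FlatMod.IsFinLocFree M) (n : ℕ) :
    IsClosedImmersion (rankOpen hM n).ι :=
  IsClosedImmersion.of_isPreimmersion _ (by rw [Scheme.Opens.range_ι]; exact isClosed_rankOpen hM n)

theorem rank_pullback_rankOpen {M : X.Modules} (hM : FlatMod.IsFinLocFree M) (n : ℕ) :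
    FlatMod.IsFinLocFreeOfRank n ((Scheme.Modules.pullback (rankOpen hM n).ι).obj M) := by
  obtain ⟨hq, hfp⟩ := isQCoh_and_isFP_of_isFinLocFree M hM
  haveI := hq
  haveI := isQCoh_pullback (rankOpen hM n).ι M
  exact (isFinLocFreeOfRank_iff_freeAt _ (isFP_pullback _ M hfp) n).2 fun x => freeAt_pullback M _ x x.2

/-- Rational equivalence to zero is local for disjoint open covers. -/
theorem ratEquivZero_of_disjoint {δ : X → ℤ} [IsLocallyNoetherian X] (hδ : Cyc.IsDimFun X δ) {k : ℤ} {I : Type}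
    (U : I → X.Opens) (hcov : ∀ x : X, ∃ i, x ∈ U i) (hdis : ∀ x i j, x ∈ U i → x ∈ U j → i = j)
    {α : AlgebraicCycle X ℤ} (h : ∀ i, ∃ G : Fam δ k, ∀ x ∈ U i, α x = G.cycle hδ x) :
    Cyc.RatEquivZero δ k α := by
  classical
  choose G hG using h
  refine (ratEquivZero_iff _).2 ⟨⟨(Σ i : ULift.{u} I, {j : (G i.down).ι // (G i.down).ξ j ∈ U i.down}),
    fun j => (G j.1.down).ξ j.2.1, fun j => (G j.1.down).f j.2.1, fun j => (G j.1.down).hξ j.2.1,
    fun j => (G j.1.down).hf j.2.1, fun x => ?_⟩, fun x => ?_⟩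
  · obtain ⟨i, hi⟩ := hcov x
    obtain ⟨W, hW, hxW, hfin⟩ := (G i).fin x
    refine ⟨W ∩ U i, hW.inter (U i).2, ⟨hxW, hi⟩, ?_⟩
    refine ((hfin.preimage (f := fun j : {j : (G i).ι // (G i).ξ j ∈ U i} => j.1)
      Subtype.val_injective.injOn).image (Sigma.mk (ULift.up.{u} i))).subset ?_
    rintro ⟨⟨i'⟩, j⟩ ⟨y, hy, hyW, hyU⟩
    obtain rfl : i' = i := hdis _ _ _ j.2 ((specializes_iff_mem_closure.2 hy).mem_open (U i).2 hyU)
    exact ⟨j, ⟨y, hy, hyW⟩, rfl⟩
  · obtain ⟨i, hi⟩ := hcov x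
    rw [hG i x hi]
    show ∑ᶠ j, Cyc.divFun δ ((G i).ξ j) ((G i).f j) x = _
    let S := ((G i).finite_support x).toFinset
    have hmem : ∀ j, Cyc.divFun δ ((G i).ξ j) ((G i).f j) x ≠ 0 → (G i).ξ j ∈ U i := fun j hj =>
      (specializes_of_divFun_ne_zero hj).1.mem_open (U i).2 hi
    rw [finsum_eq_sum_of_support_subset _ (s := S) (by simp [S])]
    symm
    rw [finsum_eq_sum_of_support_subset _
      (s := (S.subtype fun j => (G i).ξ j ∈ U i).map ⟨Sigma.mk (ULift.up.{u} i), sigma_mk_injective⟩) ?_]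
    · rw [Finset.sum_map]
      show ∑ j ∈ S.subtype (fun j => (G i).ξ j ∈ U i), Cyc.divFun δ ((G i).ξ j.1) ((G i).f j.1) x = _
      rw [Finset.sum_subtype_eq_sum_filter (fun j => Cyc.divFun δ ((G i).ξ j) ((G i).f j) x)]
      exact Finset.sum_filter_of_ne fun j _ hj => hmem j hj
    · rintro ⟨⟨i'⟩, j⟩ hj
      obtain rfl : i' = i := hdis _ _ _ j.2 ((specializes_of_divFun_ne_zero hj).1.mem_open (U i).2 hi)
      refine Finset.mem_coe.2 (Finset.mem_map.2 ⟨j, Finset.mem_subtype.2 ?_, rfl⟩)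
      exact ((G i').finite_support x).mem_toFinset.2 hj

variable {δ : X → ℤ} {E F L : X.Modules} {V : Scheme.{u}} {p : V ⟶ X} {c : Coord p E} {W : Scheme.{u}} {q : W ⟶ X}
  {cF : Coord q F}

/-- Pushforward from the bundle of a quotient by a trivial line is zero; any ranks. -/
theorem push_eq_zero' (hc : IsVB p c) (hcF : IsVB q cF) {a : L ⟶ E} {b : E ⟶ F} {hab : a ≫ b = 0}
    (hex : (ShortComplex.mk a b hab).ShortExact) (eL : L ≅ Coh.structureModule X) (hF : FlatMod.IsFinLocFree F)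
    (ι : W ⟶ V) [IsClosedImmersion ι] (wι : ι ≫ p = q) (eι : pullCoord ι wι c = b ≫ cF)
    (hX : Cyc.IsSetup X δ) {δV : V → ℤ} (hVs : Cyc.IsSetup V δV) (hδ : Cyc.DeltaCompat p δV δ) {k : ℤ}
    {α : AlgebraicCycle W ℤ} (hα : α ∈ Cyc.Zk W (fun d => δV (ι d)) k) :
    Cyc.RatEquivZero δV k (AlgebraicCycle.map ι (fun d => δV (ι d)) δV α) := by
  haveI := hX.1
  haveI := hVs.1
  refine ratEquivZero_of_disjoint hVs.2.2 (fun n => p ⁻¹ᵁ rankOpen hF n) (fun x => exists_rank hF (p x))
    (fun x i j => rankOpen_unique hF) fun n => ?_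
  let U := rankOpen hF n
  haveI := isClosedImmersion_rank hF n
  have hU : Cyc.IsSetup (U : Scheme.{u}) (fun z => δ (U.ι z)) := isSetup_closed U.ι hX
  haveI := hU.1
  have sq : IsPullback (pullback.fst p U.ι) (pullback.snd p U.ι) p U.ι := IsPullback.of_hasPullback _ _
  have sqF : IsPullback (pullback.fst q U.ι) (pullback.snd q U.ι) q U.ι := IsPullback.of_hasPullback _ _
  let ι' : pullback q U.ι ⟶ pullback p U.ι := pullback.lift (pullback.fst q U.ι ≫ ι) (pullback.snd q U.ι)
    (by rw [Category.assoc, wι]; exact pullback.condition)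
  have sqι : IsPullback ι' (pullback.fst q U.ι) (pullback.fst p U.ι) ι := by
    refine IsPullback.of_right ?_ (pullback.lift_fst _ _ _) sq.flip
    rw [show ι' ≫ pullback.snd p U.ι = pullback.snd q U.ι from pullback.lift_snd _ _ _, wι]
    exact sqF.flip
  haveI : IsClosedImmersion (pullback.fst p U.ι) := MorphismProperty.pullback_fst _ _ inferInstance
  haveI : IsClosedImmersion ι' := MorphismProperty.of_isPullback sqι.flip inferInstance
  have hq' : Coh.IsQCoh F := (isQCoh_and_isFP_of_isFinLocFree F hF).1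
  have hexU := DCohLib.shortExact_pullback_of_isFlat U.ι (ShortComplex.mk a b hab) hex
    (fun x => isFlat_of_isFinLocFree F hF x)
  have hFr := rank_pullback_rankOpen hF n
  have hLr : FlatMod.IsFinLocFreeOfRank 1 ((Scheme.Modules.pullback U.ι).obj L) :=
    CurveLib.isFinLocFreeOfRank_one (AmpleLib.isInvertible_pullback U.ι
      (ParaFLib.isInvertible_of_iso eL.symm ParaFLib.isInvertible_structureModule))
  have hEr : FlatMod.IsFinLocFreeOfRank (n + 1) ((Scheme.Modules.pullback U.ι).obj E) := by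
    rw [add_comm]
    exact rank_ext hexU hLr hFr
  have hc' : IsVB (pullback.snd p U.ι) (baseCoord c sq) := hc.baseChange sq
  have hcF' : IsVB (pullback.snd q U.ι) (baseCoord cF sqF) := hcF.baseChange sqF
  have eι' : pullCoord ι' (pullback.lift_snd _ _ _) (baseCoord c sq) =
      (Scheme.Modules.pullback U.ι).map b ≫ baseCoord cF sqF := by
    refine down_injective ?_
    have h1 : down ((Scheme.Modules.pullback U.ι).map b ≫ baseCoord cF sqF) = b ≫ down (baseCoord cF sqF) := by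
      rw [down, down, Adjunction.homEquiv_naturality_left, Category.assoc]
    rw [h1, down_pullCoord, down_baseCoord, down_baseCoord, ← pullCoord_precomp, ← eι, pullCoord_comp,
      pullCoord_comp]
    simp only [show ι' ≫ pullback.fst p U.ι = pullback.fst q U.ι ≫ ι from pullback.lift_fst _ _ _]
  have hδ' : Cyc.DeltaCompat (pullback.snd p U.ι) (fun z => δV (pullback.fst p U.ι z)) fun z => δ (U.ι z) :=
    CycLib.deltaCompat_closed_square hδ sq.w
  let α' : AlgebraicCycle ↑(pullback q U.ι) ℤ :=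
    haveI : IsClosedImmersion (pullback.fst q U.ι) := MorphismProperty.pullback_fst _ _ inferInstance
    restrictCycle (pullback.fst q U.ι) α
  have hpt : ∀ z, pullback.fst p U.ι (ι' z) = ι (pullback.fst q U.ι z) := fun z => by
    rw [← Scheme.Hom.comp_apply, pullback.lift_fst, Scheme.Hom.comp_apply]
  have hV' : Cyc.IsSetup (pullback p U.ι) (fun z => δV (pullback.fst p U.ι z)) := isSetup_closed _ hVs
  haveI := hV'.1
  have hα' : α' ∈ Cyc.Zk _ (fun d => δV (pullback.fst p U.ι (ι' d))) k := fun z hz =>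
    hα _ (by show δV (ι (pullback.fst q U.ι z)) ≠ k; rw [← hpt]; exact hz)
  have h1 := push_eq_zero hc' hcF' hexU ((Scheme.Modules.pullback U.ι).mapIso eL ≪≫ AmpleLib.pullO U.ι) hEr hFr ι'
    (pullback.lift_snd _ _ _) eι' hU hδ' hα'
  obtain ⟨G, hG⟩ := (ratEquivZero_iff _).1 (ratEquivZero_map_closed (pullback.fst p U.ι) hVs.2.2 h1)
  refine ⟨G, fun x hx => ?_⟩
  refine Eq.trans ?_ (hG x)
  obtain ⟨x', hx', -⟩ := Scheme.exists_preimage_of_isPullback sq x ⟨p x, hx⟩ rfl
  subst hx'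
  rw [map_closed_apply]
  by_cases hr : pullback.fst p U.ι x' ∈ Set.range ι
  · obtain ⟨d, hd⟩ := hr
    obtain ⟨d', hd', hd''⟩ := Scheme.exists_preimage_of_isPullback sqι x' d hd.symm
    subst hd'' hd'
    rw [map_closed_apply (δ := fun z => δV (pullback.fst p U.ι z)) ι' α' d', hpt, map_closed_apply]
    rfl
  · rw [map_closed_apply_of_notMem ι α hr, map_closed_apply_of_notMem (δ := fun z => δV (pullback.fst p U.ι z)) ι' α' ?_]
    rintro ⟨d', rfl⟩
    exact hr ⟨_, (hpt d').symm⟩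

end Groth.Agent.VBundLib
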