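import Groth.Agent.VBundLib.AffMain
import Groth.Agent.FpqcDesc.Stalk

/-! # Affine bundles given by their structure sequence -/

set_option autoImplicit false
set_option backward.isDefEq.respectTransparency false
set_option linter.style.haveILetI false

universe u

open CategoryTheory CategoryTheory.Limits AlgebraicGeometry TopologicalSpace
open Groth.Agent.CycLib

noncomputable section

namespace Groth.Agent.VBundLib

open CycLib.AffBundle (Idx LocTriv)

variable {X : Scheme.{u}} {δ : X → ℤ} {E : X.Modules} {V : Scheme.{u}} {p : V ⟶ X} {c : Coord p E}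

/-- The affine bundle is flat with shift one less. -/
theorem affine_facts (hX : Cyc.IsSetup X δ) (hc : IsVB p c) {n : ℕ} (hE : FlatMod.IsFinLocFreeOfRank (n + 1) E)
    (b : Coh.structureModule X ⟶ E) {ν : Γ(X, ⊤)} (hν : IsUnit ν) {B : Scheme.{u}} (i : B ⟶ V) [Mono i]
    (hi : theta c b i = (i ≫ p).appTop ν)
    (hB : ∀ {T : Scheme.{u}} (k : T ⟶ V), theta c b k = (k ≫ p).appTop ν → ∃ h, h ≫ i = k)
    {δB : B → ℤ} (hBs : Cyc.IsSetup B δB) (hδB : Cyc.DeltaCompat (i ≫ p) δB δ) :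
    Flat (i ≫ p) ∧ IsShift (i ≫ p) δB δ n := by
  obtain ⟨_, _, _, _⟩ := isAffineHom_of_locTriv (hc.locTriv hE)
  obtain ⟨W0, e, hW0, he⟩ := exists_scaling hc b hν i hi hB
  obtain ⟨δV, hδV⟩ := exists_deltaCompat p δ
  obtain ⟨hV, hp⟩ := bundle_facts hX (hc.locTriv hE) hδV
  obtain ⟨_, _, _, _⟩ := isAffineHom_of_locTriv (locTriv_affineSpace B 1)
  obtain ⟨δA, hδA⟩ := exists_deltaCompat (𝔸(Idx.{u} 1; B) ↘ B) δB
  obtain ⟨hA, hsA⟩ := bundle_facts hBs (locTriv_affineSpace B 1) hδA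
  let π : (W0 : Scheme.{u}) ⟶ B := W0.ι ≫ (𝔸(Idx.{u} 1; B) ↘ B)
  let j : (W0 : Scheme.{u}) ⟶ V := e.hom ≫ (V.basicOpen (theta c b (𝟙 V))).ι
  have w : j ≫ p = π ≫ i ≫ p := by simpa only [j, π, Category.assoc] using he
  let s : B ⟶ 𝔸(Idx.{u} 1; B) := AffineSpace.homOfVector (𝟙 B) fun _ => 1
  have hs : Set.range s ⊆ Set.range W0.ι := by
    rw [Scheme.Opens.range_ι, hW0]
    refine range_subset_basicOpen s ?_
    rw [AffineSpace.homOfVector_appTop_coord]
    exact isUnit_one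
  let s' := IsOpenImmersion.lift W0.ι s hs
  have hs' : s' ≫ π = 𝟙 B := by
    rw [← Category.assoc, IsOpenImmersion.lift_fac, AffineSpace.homOfVector_over]
  haveI : Surjective π := ⟨fun x => ⟨s' x, by rw [← Scheme.Hom.comp_apply, hs']; rfl⟩⟩
  haveI : Flat (π ≫ i ≫ p) := w ▸ inferInstance
  refine ⟨FlatDescStalk.flat_of_comp π (i ≫ p), fun x hx => ?_⟩
  obtain ⟨z0, hz0⟩ := π.surjective x
  obtain ⟨z, -, hzx, hmax⟩ := exists_maxFib π z0
  rw [hz0] at hzx
  have hd : (fun z => δA (W0.ι z)) = fun z => δV (j z) :=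
    deltaCompat_unique (f := π ≫ i ≫ p)
      (deltaCompat_comp hδB (deltaCompat_comp hδA (deltaCompat_preimmersion W0.ι δA)))
      (w ▸ deltaCompat_comp hδV (deltaCompat_preimmersion j δV))
  have h1 : δA (W0.ι z) = δB x + (1 : ℕ) := by
    rw [← hzx]
    exact (hsA.comp (isShift_openImm W0.ι δA)) z hmax |>.trans (by rw [add_zero])
  have hmax' : MaxFib (π ≫ i ≫ p) z := fun w' hw' hwz => by
    refine hmax w' ?_ hwz
    have h2 := hwz.map π.continuous
    rw [hzx] at h2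
    rw [hzx]
    refine hx (π w') ?_ h2
    simp only [Scheme.Hom.comp_apply, hzx] at hw' ⊢
    exact hw'
  have h3 : δV (j z) = δ ((π ≫ i ≫ p) z) + ((n + 1 : ℕ) + 0) := by
    rw [← w]
    exact (hp.comp (isShift_openImm j δV)) z (by rw [w]; exact hmax')
  simp only [← congrFun hd z, h1, Scheme.Hom.comp_apply, hzx] at h3
  rw [Scheme.Hom.comp_apply]
  push_cast at h3
  omega

end Groth.Agent.VBundLib
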