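import Groth.Agent.RelSpecLib.SymData
import Groth.Agent.RelSpecLib.Basic

/-! # The functor of points of a vector bundle -/

set_option autoImplicit false
set_option backward.isDefEq.respectTransparency false
set_option backward.defeqAttrib.useBackward true
set_option linter.style.haveILetI false

universe u

open CategoryTheory CategoryTheory.Limits AlgebraicGeometry TopologicalSpace Opposite

noncomputable section

namespace Groth.Agent.VBundLib

variable {X : Scheme.{u}} {E : X.Modules}

/-- Coordinates over a morphism: linear forms on a module with values in functions. -/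
abbrev Coord {T : Scheme.{u}} (g : T ⟶ X) (E : X.Modules) : Type u :=
  E ⟶ (Scheme.Modules.pushforward g).obj (Coh.structureModule T)

/-- The value of coordinates on a section. -/
def cval {T : Scheme.{u}} {g : T ⟶ X} (d : Coord g E) (U : X.Opens) (e : Γ(E, U)) : Γ(T, g ⁻¹ᵁ U) := d.app U e

theorem cval_add {T : Scheme.{u}} {g : T ⟶ X} (d : Coord g E) (U : X.Opens) (e e' : Γ(E, U)) :
    cval d U (e + e') = cval d U e + cval d U e' :=
  map_add (d.app U).hom e e'

theorem cval_smul {T : Scheme.{u}} {g : T ⟶ X} (d : Coord g E) (U : X.Opens) (r : Γ(X, U)) (e : Γ(E, U)) :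
    cval d U (r • e) = g.app U r * cval d U e :=
  (Scheme.Modules.Hom.app_smul d r e).trans rfl

theorem cval_res {T : Scheme.{u}} {g : T ⟶ X} (d : Coord g E) {U V : X.Opens} (h : V ≤ U) (e : Γ(E, U)) :
    T.presheaf.map (homOfLE (g.preimage_mono h)).op (cval d U e) = cval d V (E.presheaf.map (homOfLE h).op e) :=
  (ConcreteCategory.congr_hom (d.mapPresheaf.naturality (homOfLE h).op) e).symm

theorem coord_ext {T : Scheme.{u}} {g : T ⟶ X} {d d' : Coord g E}
    (h : ∀ (U : X.Opens), IsAffineOpen U → ∀ e, cval d U e = cval d' U e) : d = d' :=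
  RelSpecLib.hom_ext_affine d d' h

theorem preimage_le_of_comp {T V : Scheme.{u}} {p : V ⟶ X} {g : T ⟶ X} {k : T ⟶ V} (w : k ≫ p = g) (U : X.Opens) :
    g ⁻¹ᵁ U ≤ k ⁻¹ᵁ (p ⁻¹ᵁ U) := by subst w; exact le_rfl

theorem appLE_app {T V : Scheme.{u}} {p : V ⟶ X} {g : T ⟶ X} (k : T ⟶ V) (w : k ≫ p = g) (U : X.Opens) :
    p.app U ≫ k.appLE (p ⁻¹ᵁ U) (g ⁻¹ᵁ U) (preimage_le_of_comp w U) = g.app U := by
  subst w
  exact (congrArg (p.app U ≫ ·) (Scheme.Hom.app_eq_appLE k)).symm.trans (Scheme.Hom.comp_app k p U).symm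

/-- Coordinates pulled back along a morphism over the base. -/
def pullCoord {T V : Scheme.{u}} {p : V ⟶ X} {g : T ⟶ X} (k : T ⟶ V) (w : k ≫ p = g) (c : Coord p E) : Coord g E :=
  ⟨PresheafOfModules.homMk
    { app := fun U => AddCommGrpCat.ofHom (AddMonoidHom.mk'
        (fun e => k.appLE (p ⁻¹ᵁ U.unop) (g ⁻¹ᵁ U.unop) (preimage_le_of_comp w U.unop) (cval c U.unop e))
        fun e e' => by rw [cval_add, map_add])
      naturality := fun U V i => by
        ext e
        rw [show i = (homOfLE (leOfHom i.unop)).op from Subsingleton.elim _ _]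
        show k.appLE (p ⁻¹ᵁ V.unop) (g ⁻¹ᵁ V.unop) _ (cval c V.unop (E.presheaf.map (homOfLE (leOfHom i.unop)).op e)) =
          T.presheaf.map (homOfLE (g.preimage_mono (leOfHom i.unop))).op (k.appLE _ _ _ (cval c U.unop e))
        rw [← cval_res c (leOfHom i.unop), ← CommRingCat.comp_apply, ← CommRingCat.comp_apply, Scheme.Hom.map_appLE,
          Scheme.Hom.appLE_map] }
    fun U r e => by
      show k.appLE _ _ _ (cval c U.unop (r • e)) = g.app U.unop r * k.appLE _ _ _ (cval c U.unop e)
      rw [cval_smul, map_mul, ← CommRingCat.comp_apply, appLE_app k w]⟩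

theorem cval_pullCoord {T V : Scheme.{u}} {p : V ⟶ X} {g : T ⟶ X} (k : T ⟶ V) (w : k ≫ p = g) (c : Coord p E)
    (U : X.Opens) (e : Γ(E, U)) :
    cval (pullCoord k w c) U e = k.appLE (p ⁻¹ᵁ U) (g ⁻¹ᵁ U) (preimage_le_of_comp w U) (cval c U e) := rfl

theorem pullCoord_comp {T T' V : Scheme.{u}} {p : V ⟶ X} {g : T ⟶ X} {g' : T' ⟶ X} (k : T ⟶ V) (w : k ≫ p = g)
    (l : T' ⟶ T) (w' : l ≫ g = g') (c : Coord p E) :
    pullCoord l w' (pullCoord k w c) = pullCoord (l ≫ k) (by rw [Category.assoc, w, w']) c := by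
  refine coord_ext fun U _ e => ?_
  rw [cval_pullCoord, cval_pullCoord, cval_pullCoord, ← CommRingCat.comp_apply, Scheme.Hom.appLE_comp_appLE]

theorem pullCoord_id {T : Scheme.{u}} {g : T ⟶ X} (c : Coord g E) : pullCoord (𝟙 T) (Category.id_comp g) c = c := by
  refine coord_ext fun U _ e => ?_
  rw [cval_pullCoord]
  simp [Scheme.Hom.appLE]
  exact ConcreteCategory.congr_hom (T.presheaf.map_id _) _

/-- A morphism with coordinates is a vector bundle if it represents coordinates. -/
def IsVB {V : Scheme.{u}} (p : V ⟶ X) (c : Coord p E) : Prop :=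
  ∀ {T : Scheme.{u}} (g : T ⟶ X) (d : Coord g E), ∃! k : T ⟶ V, ∃ w : k ≫ p = g, pullCoord k w c = d

theorem IsVB.ext {V : Scheme.{u}} {p : V ⟶ X} {c : Coord p E} (h : IsVB p c) {T : Scheme.{u}} {k k' : T ⟶ V}
    (w : k ≫ p = k' ≫ p) (e : pullCoord k w c = pullCoord k' rfl c) : k = k' :=
  (h (k' ≫ p) (pullCoord k' rfl c)).unique ⟨w, e⟩ ⟨rfl, rfl⟩

variable (A : RelSpec.QCAlg X) (j : E ⟶ A.toModule)

section algebra

variable {T : Scheme.{u}} {g : T ⟶ X}

/-- The module map of a map of algebras into functions. -/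
def modOf (ω : A.presheaf ⟶ g.base _* T.presheaf) (hω : A.str ≫ ω = g.c) :
    A.toModule ⟶ (Scheme.Modules.pushforward g).obj (Coh.structureModule T) :=
  ⟨letI := A.moduleSect
   PresheafOfModules.homMk
    { app := fun U => AddCommGrpCat.ofHom (ω.app U).hom.toAddMonoidHom
      naturality := fun U V i => by
        ext m
        exact ConcreteCategory.congr_hom (ω.naturality i) m }
    fun U r m => (map_mul (ω.app U).hom _ _).trans
      (congrArg (· * _) (ConcreteCategory.congr_hom (NatTrans.congr_app hω U) r))⟩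

theorem cval_modOf (ω : A.presheaf ⟶ g.base _* T.presheaf) (hω : A.str ≫ ω = g.c) (U : X.Opens) (e : Γ(E, U)) :
    cval (j ≫ modOf A ω hω) U e = ω.app (op U) (RelSpecLib.jsec A j e) := rfl

/-- The ring map of coordinates over an open. -/
def cEval (d : Coord g E) (U : X.Opens) : SymmetricAlgebra Γ(X, U) Γ(E, U) →+* Γ(T, g ⁻¹ᵁ U) :=
  letI : Algebra Γ(X, U) Γ(T, g ⁻¹ᵁ U) := (g.app U).hom.toAlgebra
  (SymmetricAlgebra.lift
    { toFun := fun m => cval d U m
      map_add' := cval_add d U
      map_smul' := fun r m => cval_smul d U r m }).toRingHom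

theorem cEval_ι (d : Coord g E) (U : X.Opens) (m : Γ(E, U)) :
    cEval d U (SymmetricAlgebra.ι _ _ m) = cval d U m :=
  letI : Algebra Γ(X, U) Γ(T, g ⁻¹ᵁ U) := (g.app U).hom.toAlgebra
  SymmetricAlgebra.lift_ι_apply _ m

theorem cEval_algebraMap (d : Coord g E) (U : X.Opens) (r : Γ(X, U)) :
    cEval d U (algebraMap _ _ r) = g.app U r :=
  letI : Algebra Γ(X, U) Γ(T, g ⁻¹ᵁ U) := (g.app U).hom.toAlgebra
  (SymmetricAlgebra.lift
    { toFun := fun m => cval d U m
      map_add' := cval_add d U
      map_smul' := fun r m => cval_smul d U r m }).commutes r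

variable [Coh.IsQCoh E]

variable {A j} in
theorem exists_algHom (hA : RelSpec.IsSymAlg E A j) (d : Coord g E) :
    ∃ (ω : A.presheaf ⟶ g.base _* T.presheaf) (hω : A.str ≫ ω = g.c), j ≫ modOf A ω hω = d := by
  have hb := fun U : X.AffineZariskiSite => RelSpecLib.bijective_symEval E hA U.2
  let φ := fun U : X.AffineZariskiSite => RingEquiv.ofBijective (RelSpecLib.symEval A j U.1) (hb U)
  let ev := fun U : X.AffineZariskiSite => (cEval d U.1).comp (φ U).symm.toRingHom
  have hev : ∀ (U : X.AffineZariskiSite) (x : SymmetricAlgebra Γ(X, U.1) Γ(E, U.1)),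
      ev U (RelSpecLib.symEval A j U.1 x) = cEval d U.1 x := fun U x => by
    show cEval d U.1 ((φ U).symm (φ U x)) = _
    rw [RingEquiv.symm_apply_apply]
  let G : TopCat.Sheaf CommRingCat.{u} X.carrier :=
    (TopCat.Sheaf.pushforward CommRingCat.{u} g.base).obj T.sheaf
  let Φ : (Scheme.AffineZariskiSite.toOpensFunctor X).op ⋙ A.presheaf ⟶
      (Scheme.AffineZariskiSite.toOpensFunctor X).op ⋙ G.presheaf :=
    { app := fun U => CommRingCat.ofHom (ev U.unop)
      naturality := fun U V i => by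
        have hle := Scheme.AffineZariskiSite.toOpens_mono i.unop.le
        refine CommRingCat.hom_ext (RingHom.ext fun a => ?_)
        obtain ⟨x, rfl⟩ := (hb U.unop).2 a
        show ev V.unop (A.presheaf.map (homOfLE hle).op (RelSpecLib.symEval A j U.unop.1 x)) =
          T.presheaf.map (homOfLE (g.preimage_mono hle)).op (ev U.unop (RelSpecLib.symEval A j U.unop.1 x))
        rw [hev]
        refine RingHom.congr_fun (RelSpecLib.symHom_ext
          (f := ((ev V.unop).comp (A.presheaf.map (homOfLE hle).op).hom).comp (RelSpecLib.symEval A j U.unop.1))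
          (g := (T.presheaf.map (homOfLE (g.preimage_mono hle)).op).hom.comp (cEval d U.unop.1))
          (fun r => ?_) fun m => ?_) x
        · simp only [RingHom.comp_apply, RelSpecLib.symEval_algebraMap, cEval_algebraMap]
          rw [RelSpecLib.str_map, ← RelSpecLib.symEval_algebraMap A j, hev, cEval_algebraMap]
          exact ConcreteCategory.congr_hom (g.naturality (homOfLE hle).op) r
        · simp only [RingHom.comp_apply, RelSpecLib.symEval_ι, cEval_ι]
          rw [RelSpecLib.res_jsec, ← RelSpecLib.symEval_ι A j, hev, cEval_ι, cval_res] }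
  let e := Functor.IsCoverDense.restrictHomEquivHom (G := Scheme.AffineZariskiSite.toOpensFunctor X)
    (K := Opens.grothendieckTopology X) (ℱ := A.presheaf) (ℱ' := G)
  have happ : ∀ (U : X.AffineZariskiSite) (a : A.presheaf.obj (op U.1)), (e Φ).app (op U.1) a = ev U a :=
    fun U a => ConcreteCategory.congr_hom (NatTrans.congr_app (e.symm_apply_apply Φ) (op U)) a
  have hω : A.str ≫ e Φ = g.c := by
    apply (Functor.IsCoverDense.restrictHomEquivHom (G := Scheme.AffineZariskiSite.toOpensFunctor X)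
      (K := Opens.grothendieckTopology X) (ℱ := X.presheaf) (ℱ' := G)).symm.injective
    refine NatTrans.ext (funext fun U => CommRingCat.hom_ext (RingHom.ext fun r => ?_))
    show (e Φ).app (op U.unop.1) (A.str.app (op U.unop.1) r) = g.app U.unop.1 r
    rw [happ, ← RelSpecLib.symEval_algebraMap A j, hev, cEval_algebraMap]
  refine ⟨e Φ, hω, coord_ext fun U hU m => ?_⟩
  rw [cval_modOf]
  refine (happ ⟨U, hU⟩ _).trans ?_
  rw [← RelSpecLib.symEval_ι A j, hev, cEval_ι]

variable {A j} in
theorem algHom_unique (hA : RelSpec.IsSymAlg E A j) {ω ω' : A.presheaf ⟶ g.base _* T.presheaf}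
    (hω : A.str ≫ ω = g.c) (hω' : A.str ≫ ω' = g.c) (h : j ≫ modOf A ω hω = j ≫ modOf A ω' hω') : ω = ω' := by
  refine RelSpecLib.affine_hom_ext A g ω fun U hU => CommRingCat.hom_ext (RingHom.ext fun a => ?_)
  obtain ⟨x, rfl⟩ := (RelSpecLib.bijective_symEval E hA hU).2 a
  refine RingHom.congr_fun (RelSpecLib.symHom_ext (f := (ω.app (op U)).hom.comp (RelSpecLib.symEval A j U))
    (g := (ω'.app (op U)).hom.comp (RelSpecLib.symEval A j U)) (fun r => ?_) fun m => ?_) x
  · simp only [RingHom.comp_apply, RelSpecLib.symEval_algebraMap]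
    exact (ConcreteCategory.congr_hom (NatTrans.congr_app hω (op U)) r).trans
      (ConcreteCategory.congr_hom (NatTrans.congr_app hω' (op U)) r).symm
  · simp only [RingHom.comp_apply, RelSpecLib.symEval_ι]
    exact congrArg (fun d => cval d U m) h

end algebra

/-- The coordinates of the relative spectrum. -/
def tautCoord : Coord A.π E :=
  j ≫ modOf A (RelSpecLib.algMap A A.π (𝟙 _) (Category.id_comp _)) (RelSpecLib.str_algMap _ _ _ _)

theorem pullCoord_tautCoord {T : Scheme.{u}} {g : T ⟶ X} (k : T ⟶ A.spec) (w : k ≫ A.π = g) :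
    pullCoord k w (tautCoord A j) =
      j ≫ modOf A (RelSpecLib.algMap A g k w) (RelSpecLib.str_algMap _ _ _ _) := by
  refine coord_ext fun U _ e => ?_
  rw [cval_pullCoord, tautCoord, cval_modOf, cval_modOf]
  have h := RelSpecLib.algMap_comp A A.π g (𝟙 _) (Category.id_comp _) k w
  simp only [Category.comp_id] at h
  rw [h, NatTrans.comp_app, RelSpecLib.algHom_app_gen]
  rfl

variable {A j} in
/-- The relative spectrum of a symmetric algebra is a vector bundle. -/
theorem isVB_spec [Coh.IsQCoh E] (hA : RelSpec.IsSymAlg E A j) : IsVB A.π (tautCoord A j) := by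
  intro T g d
  obtain ⟨ω, hω, hd⟩ := exists_algHom hA d
  refine ⟨RelSpecLib.lift A g ω, ⟨RelSpecLib.lift_π A g ω hω, ?_⟩, ?_⟩
  · rw [pullCoord_tautCoord]
    simp only [RelSpecLib.algMap_lift A g ω hω]
    exact hd
  · rintro k ⟨w, hk⟩
    rw [pullCoord_tautCoord, ← hd] at hk
    have := algHom_unique hA _ hω hk
    subst this
    exact (RelSpecLib.lift_algMap A g k w).symm

end Groth.Agent.VBundLib
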