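import Groth.Agent.CycLib.Chern.Dual
import Groth.Agent.CycLib.Chern.ZeroMap
import Groth.Agent.CurveLib.SmulPow
import Groth.Agent.CycLib.Chern.Filt

/-! # The zero scheme of a functional on an invertible module -/

set_option autoImplicit false
set_option backward.isDefEq.respectTransparency false
set_option linter.style.haveILetI false

universe u

open CategoryTheory CategoryTheory.Limits AlgebraicGeometry TopologicalSpace
open Groth.Agent.PullbackMod Groth.Agent.CycLib Groth.Agent.CycLib.Dual Groth.Agent.DevLib Groth.Agent.DCohLib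
open scoped TensorProduct

noncomputable section

namespace Groth.Agent.VBundLib

variable {Y : Scheme.{u}} {M : Y.Modules} (hM : PicF.IsInvertible M) (τ : M ⟶ Coh.structureModule Y)

local instance hasHF (N : Y.Modules) : ModSite.HasSheafHom (O := Y.sheaf) N :=
  ModTensor.hasSheafHom (O := Y.sheaf) N

/-- The map `O → M^∨` of a functional. -/
def dualMap : Coh.structureModule Y ⟶ dd M :=
  haveI := isIso_ev_line hM
  inv (StalkHomLib.ev M (Coh.structureModule Y)) ≫ ((DCoh.tensorBi (X := Y)).obj (dd M)).map τ ≫ LocFreeHomLib.runitMap (dd M)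

/-- A functional on an invertible module as a section of the dual. -/
def dualSec : Γ(dd M, ⊤) := (dualMap hM τ).app ⊤ (1 : Γ(Y, ⊤))

include hM in
theorem isInvertible_dd : PicF.IsInvertible (dd M) :=
  GrassShLib.isInvertible_iff_rank_one.2 (rank_dd (CurveLib.isFinLocFreeOfRank_one hM))

/-- The germ of the section in terms of the dual generator. -/
theorem germ_dualSec (x : Y) {e : M.presheaf.stalk x} (he : Function.Bijective fun r : Y.presheaf.stalk x => r • e)
    {f : Y.presheaf.stalk x} (hf : stalkLin τ x e = f • LocFreeHomLib.one' x) :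
    ∃ d : (dd M).presheaf.stalk x, Function.Bijective (fun r : Y.presheaf.stalk x => r • d) ∧
      (dd M).presheaf.germ ⊤ x trivial (dualSec hM τ) = f • d := by
  haveI := isIso_ev_line hM
  let R := Y.presheaf.stalk x
  have hb := ParaFLib.bijective_oneG x
  let E : R ≃ₗ[R] M.presheaf.stalk x := LinearEquiv.ofBijective (LinearMap.toSpanSingleton R _ e) he
  have hθ := (Dual.ddEquiv (CurveLib.isFinLocFreeOfRank_one hM) x)
  obtain ⟨d, hd⟩ : ∃ d, StalkHomLib.theta M (Coh.structureModule Y) x d =
      (LinearMap.toSpanSingleton R _ (LocFreeHomLib.one' x)).comp E.symm.toLinearMap :=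
    (LocFreeHomLib.theta_bijective_flf M (flf_of_rank (CurveLib.isFinLocFreeOfRank_one hM)) _ x).2 _
  have hde : StalkHomLib.theta M (Coh.structureModule Y) x d e = LocFreeHomLib.one' x := by
    rw [hd, LinearMap.comp_apply, show E.symm.toLinearMap e = 1 from E.symm_apply_eq.2 (one_smul R e).symm]
    exact one_smul R _
  have hinj := (LocFreeHomLib.theta_bijective_flf M (flf_of_rank (CurveLib.isFinLocFreeOfRank_one hM))
    (Coh.structureModule Y) x).1
  refine ⟨d, ⟨fun r s h => ?_, fun z => ?_⟩, ?_⟩
  · have := congrArg (fun z => StalkHomLib.theta M (Coh.structureModule Y) x z e) h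
    simp only [map_smul, LinearMap.smul_apply, hde] at this
    exact hb.1 this
  · obtain ⟨c, hc⟩ := hb.2 (StalkHomLib.theta M (Coh.structureModule Y) x z e)
    refine ⟨c, hinj (LinearMap.ext fun a => ?_)⟩
    obtain ⟨r, rfl⟩ := he.2 a
    simp only [map_smul, LinearMap.smul_apply, hde]
    exact congrArg (r • ·) hc
  · have h1 : (dd M).presheaf.germ ⊤ x trivial (dualSec hM τ) =
        stalkLin (dualMap hM τ) x (LocFreeHomLib.one' x) := (stalkLin_germ _ (U := ⊤) x trivial _).symm
    have h2 : stalkLin (inv (StalkHomLib.ev M (Coh.structureModule Y))) x (LocFreeHomLib.one' x) =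
        stalkTensor x (dd M) M (d ⊗ₜ e) := by
      rw [← hde, StalkHomLib.theta_apply, ← LinearMap.comp_apply, ← stalkLin_comp, IsIso.hom_inv_id,
        stalkLin_id]
      rfl
    rw [h1, dualMap, stalkLin_comp, LinearMap.comp_apply, stalkLin_comp, LinearMap.comp_apply, h2,
      show stalkLin (((DCoh.tensorBi (X := Y)).obj (dd M)).map τ) x (stalkTensor x (dd M) M (d ⊗ₜ e)) =
        stalkTensor x (dd M) (Coh.structureModule Y) (d ⊗ₜ stalkLin τ x e) from stalkTensor_natural_right x τ (d ⊗ₜ e),
      hf, TensorProduct.tmul_smul, map_smul, map_smul, LocFreeHomLib.runitMap_stalk]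

variable {W : Scheme.{u}} (ι : W ⟶ Y) [IsClosedImmersion ι]
  (hι : ∀ (T : Scheme.{u}) (g : T ⟶ Y), (∃ k, k ≫ ι = g) ↔ (Scheme.Modules.pullback g).map τ = 0)

include hι in
/-- The zero scheme of a functional. -/
theorem isZeroSchemeOf_dualSec : Cyc.IsZeroSchemeOf ι (dd M) (dualSec hM τ) := by
  have hO : PicF.IsInvertible (Coh.structureModule Y) := ParaFLib.isInvertible_structureModule
  have key : ∀ x : Y, ∃ (d : (dd M).presheaf.stalk x) (f : Y.presheaf.stalk x),
      Function.Bijective (fun r : Y.presheaf.stalk x => r • d) ∧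
      (dd M).presheaf.germ ⊤ x trivial (dualSec hM τ) = f • d ∧
      (x ∉ Set.range ι → IsUnit f) ∧ ∀ y, ι y = x → f ∈ IsLocalRing.maximalIdeal (Y.presheaf.stalk x) := by
    intro x
    obtain ⟨tM, htM⟩ := exists_genAt hM x
    have htMx : Function.Bijective fun r : Y.presheaf.stalk x => r • tM := by
      have := htM x specializes_rfl
      rwa [TopCat.Presheaf.stalkSpecializes_refl] at this
    obtain ⟨f, hf⟩ := (ParaFLib.bijective_oneG x).2 (stalkLin τ x tM)
    obtain ⟨d, hd, hs⟩ := germ_dualSec hM τ x htMx hf.symm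
    refine ⟨d, f, hd, hs, fun hx => isUnit_coeff τ ι hι hM hx htM hf.symm, ?_⟩
    rintro y rfl hu
    have h := ker_stalkMap_zeroMap τ ι hι hM hO y htM (ParaFLib.bijective_oneG (ι y)) hf.symm
    rw [Ideal.span_singleton_eq_top.2 hu] at h
    exact RingHom.ker_ne_top _ h
  refine ⟨Set.ext fun x => ?_, fun w => ?_⟩
  · obtain ⟨d, f, hd, hs, hout, hin⟩ := key x
    show x ∈ Set.range ι ↔ _ = (0 : Cyc.secFibre (dd M) x)
    rw [hs, Submodule.Quotient.mk_smul]
    show _ ↔ f • mkF (dd M) x d = 0
    rw [smul_mkF_eq_zero_iff hd]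
    constructor
    · rintro ⟨y, hy⟩
      exact (IsLocalRing.residue_eq_zero_iff f).2 (hin y hy)
    · intro hz
      by_contra hx
      exact (IsLocalRing.mem_maximalIdeal _).1 ((IsLocalRing.residue_eq_zero_iff f).1 hz) (hout hx)
  · obtain ⟨tM, htM⟩ := exists_genAt hM (ι w)
    have htMx : Function.Bijective fun r : Y.presheaf.stalk (ι w) => r • tM := by
      have := htM _ specializes_rfl
      rwa [TopCat.Presheaf.stalkSpecializes_refl] at this
    obtain ⟨f, hf⟩ := (ParaFLib.bijective_oneG (ι w)).2 (stalkLin τ _ tM)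
    obtain ⟨d, hd, hs⟩ := germ_dualSec hM τ _ htMx hf.symm
    refine ⟨d, f, ?_, hs, ker_stalkMap_zeroMap τ ι hι hM hO w htM (ParaFLib.bijective_oneG _) hf.symm⟩
    refine eq_top_iff.2 fun z _ => ?_
    obtain ⟨r, rfl⟩ := hd.2 z
    exact Submodule.smul_mem _ _ (Submodule.mem_span_singleton_self d)

end Groth.Agent.VBundLib
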