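import Groth.Agent.VBundLib.Basic
import Groth.Agent.AmpleLib.Pullback

/-! # Base change, sub-bundles and the tautological map of a vector bundle -/

set_option autoImplicit false
set_option backward.isDefEq.respectTransparency false
set_option backward.defeqAttrib.useBackward true
set_option linter.style.haveILetI false

universe u

open CategoryTheory CategoryTheory.Limits AlgebraicGeometry TopologicalSpace Opposite

noncomputable section

namespace Groth.Agent.VBundLib

variable {X : Scheme.{u}} {E F L : X.Modules}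

theorem cval_comp {T : Scheme.{u}} {g : T ⟶ X} (b : E ⟶ F) (d : Coord g F) (U : X.Opens) (e : Γ(E, U)) :
    cval (b ≫ d) U e = cval d U (b.app U e) := rfl

theorem pullCoord_precomp {T V : Scheme.{u}} {p : V ⟶ X} {g : T ⟶ X} (k : T ⟶ V) (w : k ≫ p = g) (b : E ⟶ F)
    (c : Coord p F) : pullCoord k w (b ≫ c) = b ≫ pullCoord k w c :=
  coord_ext fun _ _ _ => rfl

section down

variable {Y : Scheme.{u}} {π : Y ⟶ X} {T : Scheme.{u}} {g : T ⟶ Y}

/-- Coordinates on an inverse image, seen over the base. -/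
def down (d : Coord g ((Scheme.Modules.pullback π).obj E)) : Coord (g ≫ π) E :=
  (Scheme.Modules.pullbackPushforwardAdjunction π).homEquiv _ _ d ≫
    (Scheme.Modules.pushforwardComp g π).hom.app (Coh.structureModule T)

/-- Coordinates over the base, seen on the inverse image. -/
def up (d : Coord (g ≫ π) E) : Coord g ((Scheme.Modules.pullback π).obj E) :=
  ((Scheme.Modules.pullbackPushforwardAdjunction π).homEquiv _ _).symm
    (d ≫ (Scheme.Modules.pushforwardComp g π).inv.app (Coh.structureModule T))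

theorem down_up (d : Coord (g ≫ π) E) : down (up d) = d := by
  rw [down, up, Equiv.apply_symm_apply, Category.assoc, Iso.inv_hom_id_app, Category.comp_id]

theorem down_injective {d d' : Coord g ((Scheme.Modules.pullback π).obj E)} (h : down d = down d') : d = d' := by
  rw [down, down, cancel_mono] at h
  exact ((Scheme.Modules.pullbackPushforwardAdjunction π).homEquiv _ _).injective h

theorem cval_down (d : Coord g ((Scheme.Modules.pullback π).obj E)) (U : X.Opens) (e : Γ(E, U)) :
    cval (down d) U e = cval d (π ⁻¹ᵁ U) (((Scheme.Modules.pullbackPushforwardAdjunction π).unit.app E).app U e) := by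
  rw [down, Adjunction.homEquiv_unit]
  rfl

theorem down_pullCoord {V : Scheme.{u}} {p : V ⟶ Y} (k : T ⟶ V) (w : k ≫ p = g)
    (c : Coord p ((Scheme.Modules.pullback π).obj E)) :
    down (pullCoord k w c) = pullCoord k (by rw [reassoc_of% w]) (down c) := by
  refine coord_ext fun U _ e => ?_
  rw [cval_down, cval_pullCoord, cval_pullCoord, cval_down]
  rfl

end down

/-- The coordinates of a base change. -/
def baseCoord {Y V V' : Scheme.{u}} {π : Y ⟶ X} {p : V ⟶ X} {p' : V' ⟶ Y} {h : V' ⟶ V} (c : Coord p E)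
    (sq : IsPullback h p' p π) : Coord p' ((Scheme.Modules.pullback π).obj E) :=
  up (pullCoord h sq.w c)

theorem down_baseCoord {Y V V' : Scheme.{u}} {π : Y ⟶ X} {p : V ⟶ X} {p' : V' ⟶ Y} {h : V' ⟶ V} (c : Coord p E)
    (sq : IsPullback h p' p π) : down (baseCoord c sq) = pullCoord h sq.w c :=
  down_up _

/-- Vector bundles are stable under base change. -/
theorem IsVB.baseChange {Y V V' : Scheme.{u}} {π : Y ⟶ X} {p : V ⟶ X} {p' : V' ⟶ Y} {h : V' ⟶ V} {c : Coord p E}
    (hc : IsVB p c) (sq : IsPullback h p' p π) : IsVB p' (baseCoord c sq) := by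
  intro T g d
  obtain ⟨k₀, ⟨w₀, e₀⟩, huniq⟩ := hc (g ≫ π) (down d)
  refine ⟨sq.lift k₀ g w₀, ⟨sq.lift_snd _ _ _, down_injective ?_⟩, ?_⟩
  · rw [down_pullCoord, down_baseCoord, pullCoord_comp]
    simp only [IsPullback.lift_fst]
    exact e₀
  · rintro k ⟨w, e⟩
    refine sq.hom_ext ?_ (by rw [w, IsPullback.lift_snd])
    rw [IsPullback.lift_fst]
    refine huniq _ ⟨by rw [Category.assoc, sq.w, reassoc_of% w], ?_⟩
    rw [← e, down_pullCoord, down_baseCoord, pullCoord_comp]

/-- Two bundles with coordinates for the same module are isomorphic. -/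
theorem IsVB.exists_iso {V W : Scheme.{u}} {p : V ⟶ X} {q : W ⟶ X} {c : Coord p E} {c' : Coord q E} (hc : IsVB p c)
    (hc' : IsVB q c') : ∃ (e : V ≅ W) (w : e.hom ≫ q = p), pullCoord e.hom w c' = c := by
  obtain ⟨f, ⟨wf, ef⟩, -⟩ := hc' p c
  obtain ⟨f', ⟨wf', ef'⟩, -⟩ := hc q c'
  refine ⟨⟨f, f', ?_, ?_⟩, wf, ef⟩
  · refine hc.ext (by rw [Category.assoc, wf', wf, Category.id_comp]) ?_
    rw [← pullCoord_comp f' wf' f wf c, ef', ef]
    exact (pullCoord_id c).symm
  · refine hc'.ext (by rw [Category.assoc, wf, wf', Category.id_comp]) ?_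
    rw [← pullCoord_comp f wf f' wf' c', ef, ef']
    exact (pullCoord_id c').symm

/-- The bundle of a quotient module. -/
theorem IsVB.factors_iff {V W : Scheme.{u}} {p : V ⟶ X} {q : W ⟶ X} {c : Coord p E} {cF : Coord q F} (hc : IsVB p c)
    (hF : IsVB q cF) {a : L ⟶ E} {b : E ⟶ F} {hab : a ≫ b = 0} (hex : (ShortComplex.mk a b hab).ShortExact)
    {ι : W ⟶ V} (wι : ι ≫ p = q) (eι : pullCoord ι wι c = b ≫ cF) {T : Scheme.{u}} (g : T ⟶ V) :
    (∃ k, k ≫ ι = g) ↔ a ≫ pullCoord g (rfl : g ≫ p = g ≫ p) c = 0 := by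
  haveI := hex.epi_g
  refine ⟨?_, fun h0 => ?_⟩
  · rintro ⟨k, rfl⟩
    rw [← pullCoord_comp ι wι k (by rw [Category.assoc, wι]) c, eι, pullCoord_precomp, reassoc_of% hab, zero_comp]
  · obtain ⟨d, hd⟩ : ∃ d : Coord (g ≫ p) F, b ≫ d = pullCoord g rfl c :=
      ⟨_, (CokernelCofork.IsColimit.desc' hex.gIsCokernel (pullCoord g (rfl : g ≫ p = g ≫ p) c) h0).2⟩
    obtain ⟨k, ⟨wk, ek⟩, -⟩ := hF (g ≫ p) d
    refine ⟨k, hc.ext (by rw [Category.assoc, wι, wk]) ?_⟩
    rw [← pullCoord_comp ι wι k wk c, eι, pullCoord_precomp, ek, hd]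

/-- The tautological map of a submodule. -/
def tautMap {V : Scheme.{u}} {p : V ⟶ X} (c : Coord p E) (a : L ⟶ E) :
    (Scheme.Modules.pullback p).obj L ⟶ Coh.structureModule V :=
  ((Scheme.Modules.pullbackPushforwardAdjunction p).homEquiv _ _).symm (a ≫ c)

theorem map_tautMap_eq_zero_iff {V : Scheme.{u}} {p : V ⟶ X} (c : Coord p E) (a : L ⟶ E) {T : Scheme.{u}} (g : T ⟶ V) :
    (Scheme.Modules.pullback g).map (tautMap c a) = 0 ↔ a ≫ pullCoord g (rfl : g ≫ p = g ≫ p) c = 0 := by
  let η : Coh.structureModule V ⟶ (Scheme.Modules.pushforward g).obj (Coh.structureModule T) :=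
    (Scheme.Modules.pullbackPushforwardAdjunction g).homEquiv _ _ (AmpleLib.pullO g).hom
  have hη : η = SheafOfModules.unitToPushforwardObjUnit g.toRingCatSheafHom := Equiv.apply_symm_apply _ _
  have hcv : ∀ (U : X.Opens) (e : Γ(L, U)),
      ((a ≫ c ≫ (Scheme.Modules.pushforward p).map η).app U e : Γ(T, g ⁻¹ᵁ (p ⁻¹ᵁ U))) =
        g.app (p ⁻¹ᵁ U) (cval c U (a.app U e)) := fun U e => by
    rw [hη]; rfl
  have h1 : (Scheme.Modules.pullback g).map (tautMap c a) = 0 ↔ tautMap c a ≫ η = 0 := by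
    rw [← cancel_mono (AmpleLib.pullO g).hom, zero_comp]
    conv_lhs => rw [← ((Scheme.Modules.pullbackPushforwardAdjunction g).homEquiv _ _).injective.eq_iff]
    rw [Adjunction.homEquiv_naturality_left]
    haveI := (Scheme.Modules.pullbackPushforwardAdjunction g).right_adjoint_additive
    rw [Adjunction.homEquiv_unit _ _ _ (0 : (Scheme.Modules.pullback g).obj _ ⟶ _), Functor.map_zero, comp_zero]
  have h2 : tautMap c a ≫ η = 0 ↔ a ≫ c ≫ (Scheme.Modules.pushforward p).map η = 0 := by
    conv_lhs => rw [← ((Scheme.Modules.pullbackPushforwardAdjunction p).homEquiv _ _).injective.eq_iff]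
    rw [Adjunction.homEquiv_naturality_right, tautMap, Equiv.apply_symm_apply, Category.assoc]
    rw [Adjunction.homEquiv_unit _ _ _ (0 : (Scheme.Modules.pullback p).obj _ ⟶ _), Functor.map_zero, comp_zero]
  rw [h1, h2]
  constructor
  · intro h
    refine coord_ext fun U _ e => ?_
    rw [cval_comp, cval_pullCoord]
    refine (ConcreteCategory.congr_hom (Scheme.Hom.app_eq_appLE g) (cval c U (a.app U e))).symm.trans ?_
    rw [← hcv, h]
    rfl
  · intro h
    refine RelSpecLib.hom_ext_affine _ _ fun U _ e => ?_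
    refine (hcv U e).trans ?_
    refine (ConcreteCategory.congr_hom (Scheme.Hom.app_eq_appLE g) (cval c U (a.app U e))).trans ?_
    exact congrArg (fun d => cval d U e) h

end Groth.Agent.VBundLib
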