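import Groth.Agent.VBundLib.Inj
import Groth.Agent.S1944
import Groth.Agent.CycLib.Chern.SubLine

/-! # Pushing forward from a hyperplane sub-bundle -/

set_option autoImplicit false
set_option backward.isDefEq.respectTransparency false
set_option linter.style.haveILetI false

universe u

open CategoryTheory CategoryTheory.Limits AlgebraicGeometry TopologicalSpace
open Groth.Agent.CycLib Groth.Agent.CycLib.Dual

noncomputable section

namespace Groth.Agent.VBundLib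

open CycLib.AffBundle (Idx LocTriv)

variable {X : Scheme.{u}} {δ : X → ℤ}

theorem ratEquivZero_c1_trivial (hX : Cyc.IsSetup X δ) [IsLocallyNoetherian X] {N : X.Modules}
    (hN : PicF.IsInvertible N) (e : N ≅ Coh.structureModule X) {s : (ξ : X) → Cyc.secFibre N ξ} (hs : ∀ ξ, s ξ ≠ 0)
    {k : ℤ} {a : AlgebraicCycle X ℤ} (ha : a ∈ Cyc.Zk X δ (k + 1)) :
    Cyc.RatEquivZero δ k (c1Cycle hX.2.2 hN a s) := by
  have h := act_c1r hX ⟨N, hN, s, hs⟩ a
  rw [c1r_one hX (l := ⟨N, hN, s, hs⟩) e, map_zero, AddMonoid.End.zero_apply, ← map_zero (cls hX)] at h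
  have hmem : c1Cycle hX.2.2 hN a s ∈ Cyc.Zk X δ k := by
    have := PB.c1Cycle_mem_Zk hX.2.2 hN s ha
    rwa [add_sub_cancel_right] at this
  have := ratEquiv_of_cls_eq hX hmem (fun _ _ => rfl) h.symm
  rwa [Cyc.RatEquiv, sub_zero] at this

theorem exists_hloc {V : Scheme.{u}} {p : V ⟶ X} {r : ℕ} (h : LocTriv p r) (y : X) :
    ∃ U : X.Opens, y ∈ U ∧ ∃ e : (↑(p ⁻¹ᵁ U) : Scheme.{u}) ≅ 𝔸(ULift.{u} (Fin r); (↑U : Scheme.{u})),
      e.hom ≫ (𝔸(ULift.{u} (Fin r); (↑U : Scheme.{u})) ↘ (↑U : Scheme.{u})) = p ∣_ U := by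
  obtain ⟨U', j, _, f, hy, sq⟩ := h y
  let i : (j.opensRange : Scheme.{u}) ≅ U' := j.isoOpensRange.symm
  have h1 : IsPullback (AffineSpace.map (Idx.{u} r) i.hom ≫ f) (𝔸(Idx.{u} r; (↑j.opensRange : Scheme.{u})) ↘ (↑j.opensRange : Scheme.{u})) p
      (i.hom ≫ j) := (AffineSpace.isPullback_map _).paste_horiz sq
  rw [show i.hom ≫ j = j.opensRange.ι from by rw [Iso.symm_hom, ← Scheme.Hom.isoOpensRange_inv_comp]] at h1
  refine ⟨j.opensRange, hy, ((isPullback_morphismRestrict p j.opensRange).flip.isoIsPullback _ _ h1), ?_⟩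
  exact IsPullback.isoIsPullback_hom_snd _ _ _ _

theorem nonempty_dd_iso {M : X.Modules} (hM : PicF.IsInvertible M) (e : M ≅ Coh.structureModule X) :
    Nonempty (dd M ≅ Coh.structureModule X) := by
  haveI := isIso_ev_line hM
  exact ⟨(AmpleLib.unitR (dd M)).symm ≪≫ AmpleLib.tIso (Iso.refl (dd M)) e.symm ≪≫
    asIso (StalkHomLib.ev M (Coh.structureModule X))⟩

variable {E F L : X.Modules} {V : Scheme.{u}} {p : V ⟶ X} {c : Coord p E} {W : Scheme.{u}} {q : W ⟶ X}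
  {cF : Coord q F}

/-- Pushforward from the bundle of a quotient by a trivial line is zero. -/
theorem push_eq_zero (hc : IsVB p c) (hF : IsVB q cF) {a : L ⟶ E} {b : E ⟶ F} {hab : a ≫ b = 0}
    (hex : (ShortComplex.mk a b hab).ShortExact) (eL : L ≅ Coh.structureModule X) {r : ℕ}
    (hEr : FlatMod.IsFinLocFreeOfRank (r + 1) E) (hFr : FlatMod.IsFinLocFreeOfRank r F)
    (ι : W ⟶ V) [IsClosedImmersion ι] (wι : ι ≫ p = q) (eι : pullCoord ι wι c = b ≫ cF)
    (hX : Cyc.IsSetup X δ) {δV : V → ℤ} (hδ : Cyc.DeltaCompat p δV δ) {k : ℤ} {α : AlgebraicCycle W ℤ}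
    (hα : α ∈ Cyc.Zk W (fun d => δV (ι d)) k) :
    Cyc.RatEquivZero δV k (AlgebraicCycle.map ι (fun d => δV (ι d)) δV α) := by
  obtain ⟨_, _, _, _⟩ := isAffineHom_of_locTriv (hc.locTriv hEr)
  obtain ⟨_, _, _, _⟩ := isAffineHom_of_locTriv (hF.locTriv hFr)
  obtain ⟨hV, hp⟩ := bundle_facts hX (hc.locTriv hEr) hδ
  have hq : Cyc.DeltaCompat q (fun d => δV (ι d)) δ := wι ▸ deltaCompat_comp hδ (deltaCompat_preimmersion ι δV)
  obtain ⟨hW, hsh⟩ := bundle_facts hX (hF.locTriv hFr) hq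
  haveI := hX.1
  haveI := hV.1
  haveI := hW.1
  have hL : PicF.IsInvertible L := ParaFLib.isInvertible_of_iso eL.symm ParaFLib.isInvertible_structureModule
  obtain ⟨β, β', hβ, hβ', hr⟩ := S1944.result W X (fun d => δV (ι d)) δ hW hX q r
    (hasRelDim_of_locTriv (hF.locTriv hFr)) hq (exists_hloc (hF.locTriv hFr)) (k - r) α
    (by rwa [sub_add_cancel])
  rw [sub_add_cancel] at hr
  let βV := pullCycle hp hV.2.2 β
  have hpM := AmpleLib.isInvertible_pullback p hL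
  have hM := isInvertible_dd hpM
  obtain ⟨w, hw⟩ := exists_secs hM
  let v := Cyc.gysinChoice _ (dualSec hpM (tautMap c a)) w
  have hv : ∀ ξ, v ξ ≠ 0 := gysinChoice_ne_zero hw
  let γ := gysinHom hV.2.2 hM ι v βV
  have h1 := gysin_bundle hc hF hex hL hEr hFr ι wι eι hX hδ hβ (β := βV) rfl hβ' w hw γ fun _ => rfl
  rw [sub_add_cancel] at h1
  have hαγ := ratEquiv_trans hr (ratEquiv_symm hW.2.2 h1)
  have hz := (zero_data hc hF hex hL hEr hFr ι wι eι).1
  have hmap : AlgebraicCycle.map ι (fun d => δV (ι d)) δV γ = c1Cycle hV.2.2 hM βV v := by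
    ext x
    by_cases hx : x ∈ Set.range ι
    · obtain ⟨z, rfl⟩ := hx
      exact map_closed_apply ι γ z
    · rw [map_closed_apply_of_notMem ι γ hx]
      refine (finsum_eq_zero_of_forall_eq_zero fun ξ => ?_).symm
      by_contra hne
      exact hx (mem_range_of_gysin hV.2.2 hM hz (right_ne_zero_of_mul hne))
  obtain ⟨eM⟩ := nonempty_dd_iso hpM ((Scheme.Modules.pullback p).mapIso eL ≪≫ AmpleLib.pullO p)
  have hβV : βV ∈ Cyc.Zk V δV (k + 1) := by
    have := mem_Zk_pullFun hβ (β := βV) rfl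
    rwa [show k - r + ((r + 1 : ℕ) : ℤ) = k + 1 by push_cast; ring] at this
  have h2 := ratEquivZero_c1_trivial hV hM eM hv hβV
  rw [← hmap] at h2
  have h3 := ratEquiv_trans (ratEquiv_map_closed ι hV.2.2 hαγ)
    (show Cyc.RatEquiv δV k (AlgebraicCycle.map ι (fun d => δV (ι d)) δV γ) 0 by rw [Cyc.RatEquiv, sub_zero]; exact h2)
  rwa [Cyc.RatEquiv, sub_zero] at h3

end Groth.Agent.VBundLib
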