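import Groth.Agent.VBundLib.Free
import Groth.Agent.S7766

/-! # Functions with nonzero restriction to every fibre of an affine bundle are regular -/

set_option autoImplicit false
set_option backward.isDefEq.respectTransparency false
set_option linter.style.haveILetI false

universe u

open CategoryTheory CategoryTheory.Limits AlgebraicGeometry TopologicalSpace Opposite

noncomputable section

namespace Groth.Agent.VBundLib

open CycLib.AffBundle (Idx LocTriv)

theorem exists_chart {V X : Scheme.{u}} {p : V ⟶ X} {r : ℕ} (h : LocTriv p r) {x : X} {W : X.Opens} (hx : x ∈ W) :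
    ∃ (R : CommRingCat.{u}) (j : Spec R ⟶ X) (_ : IsOpenImmersion j)
      (H : Spec (CommRingCat.of (MvPolynomial (Idx.{u} r) R)) ⟶ V), x ∈ Set.range j ∧ (∀ y, j y ∈ W) ∧
      IsPullback H (Spec.map (CommRingCat.ofHom MvPolynomial.C)) p j := by
  obtain ⟨U, j, _, h', hy, sq⟩ := h x
  obtain ⟨u, rfl⟩ := hy
  obtain ⟨R, f, hf, hu, hW⟩ := AlgebraicGeometry.Scheme.exists_affine_mem_range_and_range_subset (U := j ⁻¹ᵁ W) (x := u) hx
  haveI := hf
  refine ⟨R, f ≫ j, inferInstance, (AffineSpace.SpecIso _ R).inv ≫ AffineSpace.map _ f ≫ h', ?_, ?_, ?_⟩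
  · obtain ⟨y, rfl⟩ := hu
    exact ⟨y, rfl⟩
  · exact fun y => hW ⟨y, rfl⟩
  · have h1 : IsPullback (AffineSpace.SpecIso (Idx.{u} r) R).inv (Spec.map (CommRingCat.ofHom MvPolynomial.C))
        (𝔸(Idx.{u} r; Spec R) ↘ Spec R) (𝟙 _) :=
      IsPullback.of_horiz_isIso ⟨by rw [Category.comp_id, AffineSpace.SpecIso_inv_over]⟩
    have h2 := h1.paste_horiz ((AffineSpace.isPullback_map (n := Idx.{u} r) f).paste_horiz sq)
    rwa [Category.id_comp] at h2

/-- A function not identically zero on any fibre is a nonzerodivisor at every point. -/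
theorem germ_mem_nonZeroDivisors {V X : Scheme.{u}} {p : V ⟶ X} {r : ℕ} (h : LocTriv p r) {W : X.Opens}
    (t : Γ(V, p ⁻¹ᵁ W)) (ht : ∀ x : X, x ∈ W → ∃ v : V, p v = x ∧ v ∈ V.basicOpen t) (v : V) (hv : p v ∈ W) :
    V.presheaf.germ (p ⁻¹ᵁ W) v hv t ∈ nonZeroDivisors (V.presheaf.stalk v) := by
  obtain ⟨R, j, _, H, hx, hW, sq⟩ := exists_chart h hv
  haveI : IsOpenImmersion H := MorphismProperty.of_isPullback sq.flip inferInstance
  obtain ⟨y, hy⟩ := hx
  obtain ⟨Q, hQ, -⟩ := Scheme.exists_preimage_of_isPullback sq v y hy.symm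
  subst hQ
  have hle : (⊤ : (Spec (CommRingCat.of (MvPolynomial (Idx.{u} r) R))).Opens) ≤ H ⁻¹ᵁ (p ⁻¹ᵁ W) := fun Q' _ => by
    show p (H Q') ∈ W
    rw [← Scheme.Hom.comp_apply, sq.w]
    exact hW _
  let f : MvPolynomial (Idx.{u} r) R := (Scheme.ΓSpecIso _).hom (H.appLE (p ⁻¹ᵁ W) ⊤ hle t)
  have hinv : (Scheme.ΓSpecIso _).inv f = H.appLE (p ⁻¹ᵁ W) ⊤ hle t :=
    ConcreteCategory.congr_hom (Scheme.ΓSpecIso _).hom_inv_id _
  -- the coefficients generate the unit ideal
  have hcont : Ideal.span (Set.range f.coeff) = ⊤ := by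
    by_contra hne
    obtain ⟨P, hP, hle'⟩ := Ideal.exists_le_maximal _ hne
    let P' : Spec R := ⟨P, hP.isPrime⟩
    obtain ⟨w, hw, hwt⟩ := ht (j P') (hW P')
    obtain ⟨Q', hQ', hQP⟩ := Scheme.exists_preimage_of_isPullback sq w P' hw
    subst hQ'
    have hP' : P = Q'.asIdeal.comap (MvPolynomial.C (σ := Idx.{u} r) (R := R)) :=
      (congrArg PrimeSpectrum.asIdeal hQP).symm
    have hfQ : f ∈ Q'.asIdeal := by
      rw [f.as_sum]
      refine Ideal.sum_mem _ fun m _ => ?_
      rw [← mul_one (f.coeff m), ← MvPolynomial.C_mul_monomial]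
      refine Ideal.mul_mem_right _ _ ?_
      have : f.coeff m ∈ P := hle' (Ideal.subset_span ⟨m, rfl⟩)
      rw [hP'] at this
      exact this
    have hQ : Q' ∈ (Spec (CommRingCat.of (MvPolynomial (Idx.{u} r) R))).basicOpen (H.appLE (p ⁻¹ᵁ W) ⊤ hle t) := by
      rw [Scheme.Hom.appLE, CommRingCat.comp_apply, Scheme.basicOpen_res]
      refine ⟨trivial, ?_⟩
      rw [← Scheme.preimage_basicOpen]
      exact hwt
    rw [← hinv, basicOpen_eq_of_affine] at hQ
    exact hQ hfQ
  have hnzd : f ∈ nonZeroDivisors (MvPolynomial (Idx.{u} r) R) := by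
    let e := (MvPolynomial.renameEquiv R (Equiv.ulift.{u} : Idx.{u} r ≃ Fin r)).toRingEquiv
    have hc : Ideal.span (Set.range (e f).coeff) = ⊤ := by
      rw [← hcont]
      refine congrArg _ (Set.ext fun a => ?_)
      constructor
      · rintro ⟨m, rfl⟩
        refine ⟨Finsupp.equivMapDomain Equiv.ulift.symm m, ?_⟩
        have := MvPolynomial.coeff_rename_mapDomain (Equiv.ulift.{u} : Idx.{u} r ≃ Fin r)
          (Equiv.ulift.{u}).injective f (Finsupp.equivMapDomain Equiv.ulift.symm m)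
        refine this.symm.trans (congrArg (fun d => MvPolynomial.coeff d _) ?_)
        rw [← Finsupp.equivMapDomain_eq_mapDomain, ← Finsupp.equivMapDomain_trans,
          Equiv.symm_trans_self, Finsupp.equivMapDomain_refl]
      · rintro ⟨m, rfl⟩
        exact ⟨_, MvPolynomial.coeff_rename_mapDomain _ (Equiv.ulift.{u}).injective f m⟩
    have := (S7766.result R r (e f) hc).1
    exact mem_nonZeroDivisors_of_injective (f := e) e.injective this
  have hg : H.stalkMap Q (V.presheaf.germ (p ⁻¹ᵁ W) (H Q) hv t) ∈ nonZeroDivisors _ := by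
    letI := TopCat.Presheaf.algebra_section_stalk
      (Spec (CommRingCat.of (MvPolynomial (Idx.{u} r) R))).presheaf (U := ⊤) ⟨Q, trivial⟩
    haveI := (isAffineOpen_top (Spec (CommRingCat.of (MvPolynomial (Idx.{u} r) R)))).isLocalization_stalk ⟨Q, trivial⟩
    have h1 : H.stalkMap Q (V.presheaf.germ (p ⁻¹ᵁ W) (H Q) hv t) =
        algebraMap Γ(Spec (CommRingCat.of (MvPolynomial (Idx.{u} r) R)), ⊤) _ (H.appLE (p ⁻¹ᵁ W) ⊤ hle t) := by
      rw [Scheme.Hom.germ_stalkMap_apply, Scheme.Hom.appLE, CommRingCat.comp_apply]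
      exact (TopCat.Presheaf.germ_res_apply (Spec (CommRingCat.of (MvPolynomial (Idx.{u} r) R))).presheaf _ _ _ _).symm
    rw [h1]
    refine IsLocalization.map_nonZeroDivisors_le (isAffineOpen_top _ |>.primeIdealOf ⟨Q, trivial⟩).asIdeal.primeCompl _
      ⟨_, ?_, rfl⟩
    rw [← hinv]
    refine mem_nonZeroDivisors_of_injective
      (f := (Scheme.ΓSpecIso (CommRingCat.of (MvPolynomial (Idx.{u} r) R))).commRingCatIsoToRingEquiv)
      (RingEquiv.injective _) ?_
    rwa [show (Scheme.ΓSpecIso (CommRingCat.of (MvPolynomial (Idx.{u} r) R))).commRingCatIsoToRingEquiv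
      ((Scheme.ΓSpecIso _).inv f) = f from
        ConcreteCategory.congr_hom (Scheme.ΓSpecIso (CommRingCat.of (MvPolynomial (Idx.{u} r) R))).inv_hom_id f]
  exact mem_nonZeroDivisors_of_injective (f := (asIso (H.stalkMap Q)).commRingCatIsoToRingEquiv)
    (RingEquiv.injective _) hg

end Groth.Agent.VBundLib
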