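import Groth.Agent.VBundLib.Reg
import Groth.Agent.VBundLib.DualSec
import Groth.Agent.S8268

/-! # The bundle of a quotient as a zero scheme -/

set_option autoImplicit false
set_option backward.isDefEq.respectTransparency false
set_option backward.defeqAttrib.useBackward true
set_option linter.style.haveILetI false

universe u

open CategoryTheory CategoryTheory.Limits AlgebraicGeometry TopologicalSpace Opposite
open Groth.Agent.PullbackMod Groth.Agent.CycLib Groth.Agent.CycLib.Dual

noncomputable section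

namespace Groth.Agent.VBundLib

variable {X : Scheme.{u}} {E F L : X.Modules}

theorem pullCoord_specMap {A B : RelSpec.QCAlg X} {jA : E ⟶ A.toModule} {jB : F ⟶ B.toModule} {b : E ⟶ F}
    {ψ : A ⟶ B} (hψ : jA ≫ RelSpec.QCAlg.Hom.toModuleMap ψ = b ≫ jB) :
    pullCoord (RelSpec.QCAlg.specMap ψ) (RelSpec.QCAlg.specMap_π ψ) (tautCoord A jA) = b ≫ tautCoord B jB := by
  rw [pullCoord_tautCoord]
  refine coord_ext fun U _ e => ?_
  have h := RelSpecLib.algMap_specMap B.π ψ (𝟙 _) (Category.id_comp _)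
  simp only [Category.id_comp] at h
  rw [cval_modOf, cval_comp, tautCoord, cval_modOf, h]
  exact congrArg (fun z => (RelSpecLib.algMap B B.π (𝟙 _) (Category.id_comp _)).app (op U) z) congr(($hψ).app U e)

/-- A quotient has a bundle closed in the bundle. -/
theorem exists_subBundle [Coh.IsQCoh E] [Coh.IsQCoh F] {V : Scheme.{u}} {p : V ⟶ X} {c : Coord p E} (hc : IsVB p c)
    (b : E ⟶ F) [Epi b] :
    ∃ (W : Scheme.{u}) (q : W ⟶ X) (cF : Coord q F) (ι : W ⟶ V) (wι : ι ≫ p = q),
      IsClosedImmersion ι ∧ IsVB q cF ∧ pullCoord ι wι c = b ≫ cF := by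
  have hA := RelSpecLib.isSymAlg_symAlg (E := E)
  have hB := RelSpecLib.isSymAlg_symAlg (E := F)
  obtain ⟨ψ, hψ, -⟩ := hA (RelSpecLib.symAlg F) (b ≫ RelSpecLib.symJ F)
  obtain ⟨e, we, ee⟩ := IsVB.exists_iso (isVB_spec hA) hc
  haveI := S8268.result E F inferInstance inferInstance b (RelSpecLib.symAlg E) (RelSpecLib.symAlg F) _ _ hA hB ψ hψ
  have w : (RelSpec.QCAlg.specMap ψ ≫ e.hom) ≫ p = (RelSpecLib.symAlg F).π := by
    rw [Category.assoc, we, RelSpec.QCAlg.specMap_π]
  refine ⟨_, _, _, RelSpec.QCAlg.specMap ψ ≫ e.hom, w, inferInstance, isVB_spec hB, ?_⟩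
  rw [← pullCoord_comp e.hom we (RelSpec.QCAlg.specMap ψ) (RelSpec.QCAlg.specMap_π ψ), ee, pullCoord_specMap hψ]

section

variable {V : Scheme.{u}} {p : V ⟶ X} {c : Coord p E} {W : Scheme.{u}} {q : W ⟶ X} {cF : Coord q F}

theorem stalkLin_tautMap (a : L ⟶ E) (v : V) {U : X.Opens} (hv : p v ∈ U) (e : Γ(L, U)) :
    stalkLin (tautMap c a) v (pullStalk p L v (L.presheaf.germ U (p v) hv e)) =
      V.presheaf.germ (p ⁻¹ᵁ U) v hv (cval c U (a.app U e)) • LocFreeHomLib.one' v := by
  rw [pullStalk_germ, stalkLin_germ]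
  have h : (tautMap c a).app (p ⁻¹ᵁ U) (((Scheme.Modules.pullbackPushforwardAdjunction p).unit.app L).app U e) =
      cval c U (a.app U e) := by
    have h1 : (Scheme.Modules.pullbackPushforwardAdjunction p).unit.app L ≫
        (Scheme.Modules.pushforward p).map (tautMap c a) = a ≫ c := by
      exact (Adjunction.homEquiv_unit _ _ _ _).symm.trans (Equiv.apply_symm_apply _ _)
    exact congr(($h1).app U e)
  rw [h, LocFreeHomLib.one', ← TopCat.Presheaf.germ_res_apply (Coh.structureModule V).presheaf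
      (homOfLE (le_top : p ⁻¹ᵁ U ≤ ⊤)) v hv]
  rw [← ParaFLib.germ_smul']
  congr 1
  show _ = (cval c U (a.app U e)) * (V.presheaf.map _ (1 : Γ(V, ⊤)))
  rw [map_one, mul_one]

variable (hc : IsVB p c) (hF : IsVB q cF) {a : L ⟶ E} {b : E ⟶ F} {hab : a ≫ b = 0}
  (hex : (ShortComplex.mk a b hab).ShortExact) (hL : PicF.IsInvertible L) {r : ℕ}
  (hEr : FlatMod.IsFinLocFreeOfRank (r + 1) E) (hFr : FlatMod.IsFinLocFreeOfRank r F)
  (ι : W ⟶ V) [IsClosedImmersion ι] (wι : ι ≫ p = q) (eι : pullCoord ι wι c = b ≫ cF)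

include hc hF hex wι eι in
theorem factors_tautMap (T : Scheme.{u}) (g : T ⟶ V) :
    (∃ k, k ≫ ι = g) ↔ (Scheme.Modules.pullback g).map (tautMap c a) = 0 := by
  rw [map_tautMap_eq_zero_iff]
  exact IsVB.factors_iff hc hF hex wι eι g

include hc hF hEr hFr wι in
/-- Every fibre has a point outside the smaller bundle. -/
theorem exists_notMem_range (x : X) : ∃ v : V, p v = x ∧ v ∉ Set.range ι := by
  by_contra! hall
  have hV := hc.locTriv hEr
  have hW := hF.locTriv hFr
  let i₀ : q.fiber x ⟶ p.fiber x := pullback.lift (q.fiberι x ≫ ι) (q.fiberToSpecResidueField x)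
    (by rw [Category.assoc, wι]; exact pullback.condition)
  have sq : IsPullback i₀ (q.fiberι x) (p.fiberι x) ι := by
    refine IsPullback.of_right ?_ (pullback.lift_fst _ _ _) (IsPullback.of_hasPullback p (X.fromSpecResidueField x)).flip
    rw [show i₀ ≫ pullback.snd p (X.fromSpecResidueField x) = q.fiberToSpecResidueField x from pullback.lift_snd _ _ _, wι]
    exact (IsPullback.of_hasPullback q (X.fromSpecResidueField x)).flip
  haveI : IsClosedImmersion i₀ := MorphismProperty.of_isPullback sq.flip inferInstance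
  haveI : Surjective i₀ := ⟨fun z => by
    obtain ⟨w, hw⟩ := hall (p.fiberι x z) (by
      have : z ∈ Set.univ := trivial
      exact (p.range_fiberι x).le ⟨z, rfl⟩)
    obtain ⟨y, hy, -⟩ := Scheme.exists_preimage_of_isPullback sq z w hw.symm
    exact ⟨y, hy⟩⟩
  obtain ⟨e⟩ := CycLib.AffBundle.nonempty_fibre_iso hV x
  obtain ⟨e'⟩ := CycLib.AffBundle.nonempty_fibre_iso hW x
  have hhom : IsHomeomorph i₀ := isHomeomorph_iff_isEmbedding_surjective.2 ⟨i₀.isEmbedding, i₀.surjective⟩
  have h1 := hhom.topologicalKrullDim_eq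
  rw [e.hom.homeomorph.isHomeomorph.topologicalKrullDim_eq, e'.hom.homeomorph.isHomeomorph.topologicalKrullDim_eq] at h1
  have hd : ∀ n : ℕ, topologicalKrullDim (CycLib.AffBundle.polySpec n (X.residueField x)) = n := fun n => by
    show topologicalKrullDim (PrimeSpectrum (MvPolynomial (CycLib.AffBundle.Idx.{u} n) (X.residueField x))) = n
    rw [PrimeSpectrum.topologicalKrullDim_eq_ringKrullDim,
      ringKrullDim_eq_of_ringEquiv (MvPolynomial.renameEquiv _ Equiv.ulift).toRingEquiv,
      MvPolynomial.ringKrullDim_of_isNoetherianRing, ringKrullDim_eq_zero_of_field, zero_add, Nat.card_fin]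
  rw [hd, hd] at h1
  exact Nat.ne_of_lt (Nat.lt_succ_self r) (by exact_mod_cast h1)

include hc hF hex hL hEr hFr wι eι in
/-- The bundle of the quotient is a regular zero scheme. -/
theorem zero_data :
    Cyc.IsZeroSchemeOf ι (dd ((Scheme.Modules.pullback p).obj L))
        (dualSec (AmpleLib.isInvertible_pullback p hL) (tautMap c a)) ∧
      ∀ v : V, Function.Injective (fun z : V.presheaf.stalk v => z •
        (dd ((Scheme.Modules.pullback p).obj L)).presheaf.germ ⊤ v trivial
          (dualSec (AmpleLib.isInvertible_pullback p hL) (tautMap c a))) := by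
  have hM := AmpleLib.isInvertible_pullback p hL
  have hι := factors_tautMap hc hF hex ι wι eι
  refine ⟨isZeroSchemeOf_dualSec hM (tautMap c a) ι hι, fun v => ?_⟩
  obtain ⟨U, e, hvU, he⟩ := ParaFLib.exists_gen_nhd hL (p v)
  haveI := InvExt.isQCoh_of_isInvertible hL
  have hb : ∀ (v' : V) (hv' : p v' ∈ U), Function.Bijective fun z : V.presheaf.stalk v' =>
      z • pullStalk p L v' (L.presheaf.germ U (p v') hv' e) := fun v' hv' =>
    ProjBundleLib.bijective_pullStalk_gen p v' (he.bijective_germ _ hv')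
  have hreg : V.presheaf.germ (p ⁻¹ᵁ U) v hvU (cval c U (a.app U e)) ∈ nonZeroDivisors _ := by
    refine germ_mem_nonZeroDivisors (hc.locTriv hEr) _ (fun x hx => ?_) v hvU
    obtain ⟨v', rfl, hout⟩ := exists_notMem_range hc hF hEr hFr ι wι x
    refine ⟨v', rfl, ?_⟩
    rw [Scheme.mem_basicOpen (X := V) (cval c U (a.app U e)) v' hx]
    obtain ⟨tM, htM⟩ := exists_genAt hM v'
    have hu : ∀ f, stalkLin (tautMap c a) v' tM = f • LocFreeHomLib.one' v' → IsUnit f := fun f hf =>
      isUnit_coeff (tautMap c a) ι hι hM hout htM hf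
    obtain ⟨f, hf⟩ := (ParaFLib.bijective_oneG v').2 (stalkLin (tautMap c a) v' tM)
    obtain ⟨z, hz⟩ := (hb v' hx).2 tM
    have h2 := (congrArg (stalkLin (tautMap c a) v') hz.symm).trans
      ((map_smul (stalkLin (tautMap c a) v') z _).trans (congrArg (z • ·) (stalkLin_tautMap a v' hx e)))
    rw [smul_smul] at h2
    exact isUnit_of_mul_isUnit_right (hu _ h2)
  obtain ⟨d, hd, hs⟩ := germ_dualSec hM (tautMap c a) v (hb v hvU) (stalkLin_tautMap a v hvU e)
  intro z z' h
  simp only [hs, smul_smul] at h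
  exact (mul_right_mem_nonZeroDivisors_eq_zero_iff hreg |>.1 (by rw [sub_mul, sub_eq_zero]; exact hd.1 h) |>
    sub_eq_zero.1)

end

end Groth.Agent.VBundLib
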